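import Cfsg.Agent.Mrg.Omega.NOThreeL.NF.Nat


/-!
# An offender with constant commutators is one full root group (natural case)

`M : NatKM F S P W ⊥ k`, `A ≤ S` an offender on `W` with `[x, A] = [y, A]` for all `x, y ∈ W - C(A)`:
then `A` is a minimal offender (`min_of_const`).
-/

set_option autoImplicit false
set_option linter.unusedSectionVars false

namespace Cfsg.Agent.Omega.NOThreeL.NF.NatR

open Subgroup Cfsg Cfsg.Agent.ZN Cfsg.Agent.ZN.ChoiceBase
open Cfsg.Agent.Omega.FFThm (ElemM OffM NoOverM ConclM NatKM ActsSL)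
open Cfsg.Agent.Omega.NatPair
open Cfsg.Agent.Lib.SL2Mat

universe u

variable {G : Type u} [Group G] {F : Type} [Field F] {S P W : Subgroup G} {k : ℕ}

/-- `[x, A] = [y, A]` for `x, y ∈ W - C(A)` -/
def Const (W A : Subgroup G) : Prop :=
  ∀ x ∈ W, x ∉ centralizer (A : Set G) → ∀ y ∈ W, y ∉ centralizer (A : Set G) → ∀ a ∈ A,
    ∃ b ∈ A, a * x * a⁻¹ * x⁻¹ = b * y * b⁻¹ * y⁻¹

variable {M : NatKM F S P W ⊥ k} {A : Subgroup G} (hPW : P ≤ normalizer (W : Set G)) (hSP : S ≤ P)
include hPW hSP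

/-- an offender with constant commutators is a root group -/
theorem Rt.of_const (hAS : A ≤ S) (hoff : OffM W A) (hc : Const W A) : ∃ i, Rt M i A := by
  classical
  obtain ⟨I, h1, h2⟩ := M.offM A hAS hoff
  have hI : I.Nonempty := by
    rw [Set.nonempty_iff_ne_empty]
    rintro rfl
    refine hoff.ne fun a ha => ?_
    obtain ⟨b, hb, hac⟩ := h1 a ha
    refine cent_of_ac (M := M) hPW (hSP (hAS ha)) fun v hv j => ?_
    have h3 : up (b j) = 1 := by rw [hb j (Set.notMem_empty j), up_zero]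
    exact (hac.1 v hv j).trans (congrArg (fun t => ap t (M.e v j)) h3)
  obtain ⟨i, hi⟩ := hI
  -- the commutator of an element with `v_j`
  have hel : ∀ j ∈ I, ∃ v ∈ W, M.e v j = ![0, 1] ∧ (∀ l, l ≠ j → M.e v l = 0) ∧
      ∃ a ∈ A, M.e (a * v * a⁻¹ * v⁻¹) j = ![1, 0] := by
    intro j hj
    obtain ⟨v, hv, hvj, hvl⟩ := exists_pt (M := M) j ![0, 1]
    obtain ⟨a, ha, hac⟩ := h2 (Pi.single j 1) (fun l hl => by
      have : l ≠ j := fun h3 => hl (by rw [h3]; exact hj)
      rw [Pi.single_apply, if_neg this])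
    refine ⟨v, hv, hvj, hvl, a, ha, ?_⟩
    have hm := cmem hPW (hSP (hAS ha)) hv
    rw [M.mul _ hm _ (inv_mem hv), e_inv hv, Pi.add_apply, Pi.neg_apply, hac.1 v hv j, hvj]
    simp only [Pi.single_eq_same]
    rw [ap_up]
    exact ext2 (by simp) (by simp)
  have huniq : ∀ j ∈ I, j = i := by
    intro j hj
    by_contra hne
    obtain ⟨v, hv, hvi, hvl, a, ha, hav⟩ := hel i hi
    obtain ⟨w, hw, hwj, hwl, b, hb, hbw⟩ := hel j hj
    have hvc : v ∉ centralizer (A : Set G) := fun h3 => by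
      have h4 : a * v * a⁻¹ * v⁻¹ = 1 := by rw [mem_centralizer_iff.1 h3 a ha]; group
      rw [h4, e_one] at hav
      exact one_ne_zero (α := F) (congrFun hav 0).symm
    have hwc : w ∉ centralizer (A : Set G) := fun h3 => by
      have h4 : b * w * b⁻¹ * w⁻¹ = 1 := by rw [mem_centralizer_iff.1 h3 b hb]; group
      rw [h4, e_one] at hbw
      exact one_ne_zero (α := F) (congrFun hbw 0).symm
    obtain ⟨d, hd, h3⟩ := hc v hv hvc w hw hwc a ha
    obtain ⟨β, -, hdac⟩ := h1 d hd
    have hm := cmem hPW (hSP (hAS hd)) hw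
    have hwi : M.e w i = 0 := hwl i (Ne.symm hne)
    rw [h3, M.mul _ hm _ (inv_mem hw), e_inv hw, Pi.add_apply, Pi.neg_apply, hdac.1 w hw i, hwi, ap_up] at hav
    have h4 := congrFun hav 0
    simp at h4
  have key : ∀ c : F, (fun j => up ((Pi.single i c : Fin k → F) j) :
      Fin k → Matrix.SpecialLinearGroup (Fin 2) F) = Pi.mulSingle i (up c) := by
    intro c
    funext j
    by_cases hj : j = i
    · subst hj; rw [Pi.single_eq_same, Pi.mulSingle_eq_same]
    · rw [Pi.single_eq_of_ne hj, Pi.mulSingle_eq_of_ne hj, up_zero]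
  refine ⟨i, hAS, fun a ha => ?_, fun c => ?_⟩
  · obtain ⟨b, hb, hac⟩ := h1 a ha
    refine ⟨b i, ?_⟩
    have h3 : b = Pi.single i (b i) := by
      funext j
      by_cases hj : j = i
      · subst hj; rw [Pi.single_eq_same]
      · rw [Pi.single_eq_of_ne hj, hb j fun h4 => hj (huniq j h4)]
    rw [← key, ← h3]
    exact hac.1
  · obtain ⟨a, ha, hac⟩ := h2 (Pi.single i c) (fun l hl => by
      have : l ≠ i := fun h3 => hl (by rw [h3]; exact hi)
      rw [Pi.single_apply, if_neg this])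
    refine ⟨a, ha, ?_⟩
    rw [← key]
    exact hac.1

/-- a root group is a minimal offender -/
theorem Rt.minOff [Finite G] [CharP F 2] {i : Fin k} (h : Rt M i A) : MinOffM W S A := by
  classical
  refine ⟨h.le, h.offM hPW hSP, fun B hBA hB => ?_⟩
  obtain ⟨I, h1, h2⟩ := M.offM B (hBA.trans h.le) hB
  have hI : I.Nonempty := by
    rw [Set.nonempty_iff_ne_empty]
    rintro rfl
    refine hB.ne fun a ha => ?_
    obtain ⟨b, hb, hac⟩ := h1 a ha
    refine cent_of_ac (M := M) hPW (hSP (h.le (hBA ha))) fun v hv j => ?_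
    have h3 : up (b j) = 1 := by rw [hb j (Set.notMem_empty j), up_zero]
    exact (hac.1 v hv j).trans (congrArg (fun t => ap t (M.e v j)) h3)
  obtain ⟨j, hj⟩ := hI
  have hij : j = i := by
    by_contra hne
    obtain ⟨v, hv, hvj, -⟩ := exists_pt (M := M) j ![0, 1]
    obtain ⟨a, ha, hac⟩ := h2 (Pi.single j 1) (fun l hl => by
      have : l ≠ j := fun h3 => hl (by rw [h3]; exact hj)
      rw [Pi.single_apply, if_neg this])
    obtain ⟨c, hc⟩ := h.acts a (hBA ha)
    have h3 := hac.1 v hv j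
    rw [ac_ne hc hv hne, hvj] at h3
    simp only [Pi.single_eq_same] at h3
    rw [ap_up] at h3
    have h4 := congrFun h3 0
    simp at h4
  subst hij
  have key : ∀ c : F, (fun l => up ((Pi.single j c : Fin k → F) l) :
      Fin k → Matrix.SpecialLinearGroup (Fin 2) F) = Pi.mulSingle j (up c) := by
    intro c
    funext l
    by_cases hl : l = j
    · subst hl; rw [Pi.single_eq_same, Pi.mulSingle_eq_same]
    · rw [Pi.single_eq_of_ne hl, Pi.mulSingle_eq_of_ne hl, up_zero]
  have hRB : Rt M j B := by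
    refine ⟨hBA.trans h.le, fun a ha => h.acts a (hBA ha), fun c => ?_⟩
    obtain ⟨a, ha, hac⟩ := h2 (Pi.single j c) (fun l hl => by
      have : l ≠ j := fun h3 => hl (by rw [h3]; exact hj)
      rw [Pi.single_apply, if_neg this])
    refine ⟨a, ha, ?_⟩
    rw [← key]
    exact hac.1
  rw [h.relIndex hPW hSP, hRB.relIndex hPW hSP]

/-- **An offender with constant commutators is a minimal offender.** -/
theorem min_of_const [Finite G] [CharP F 2] (M : NatKM F S P W ⊥ k) (hAS : A ≤ S) (hoff : OffM W A)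
    (hc : Const W A) : MinOffM W S A := by
  obtain ⟨i, hi⟩ := Rt.of_const (M := M) hPW hSP hAS hoff hc
  exact hi.minOff hPW hSP

end Cfsg.Agent.Omega.NOThreeL.NF.NatR
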