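import Cfsg.Agent.Mrg.Omega.NOThreeL.NF.Sym
import Cfsg.Agent.Mrg.Omega.NO3S.Act.OneNat

section


/-!
# An offender with constant commutators is one transposition (symmetric case)

`M : SymKM S P V ⊥ k m`, `A ≤ S` an offender on `V` with `[x, A] = [y, A]` for all `x, y ∈ V - C(A)`:
then `A` is a minimal offender (`min_of_const`).
-/

set_option autoImplicit false
set_option linter.unusedSectionVars false

namespace Cfsg.Agent.Omega.NOThreeL.NF.SymRP

open Subgroup Cfsg Cfsg.Agent.ZN Cfsg.Agent.ZN.ChoiceBase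
open Cfsg.Agent.Omega.FFThm (ElemM OffM NoOverM ConclM SymK SymKM ActsSym)
open Cfsg.Agent.Omega.Half (Amb)
open Cfsg.Agent.Omega.Half.SymA
open Cfsg.Agent.Omega.NOThreeL.NF.NatR (Const)
open scoped Classical commutatorElement

universe u

variable {G : Type u} [Group G] [Finite G] {S : Sylow 2 G} {P V : Subgroup G} {k m : ℕ}

/-- an offender with constant commutators acts as one transposition -/
theorem ad_of_const (M : SymKM (S : Subgroup G) P V ⊥ k m) (hA : Amb (S : Subgroup G) P V) (hm : 1 ≤ m)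
    {A : Subgroup G} (hAS : A ≤ (S : Subgroup G)) (hoff : OffM V A) (hc : Const V A) :
    ∃ p q, AD M.toSymK A p q := by
  set N := M.toSymK with hN
  obtain ⟨-, hof⟩ := M.offM A hAS hoff
  have hAP : A ≤ P := hAS.trans hA.TH
  have hS2 : IsPGroup 2 (S : Subgroup G) := S.isPGroup'
  -- the element `a` and its transpositions
  have hof' : ∀ a ∈ A, ∃ π : Equiv.Perm (Pt k m), Mv N a π ∧ ∀ r, π r ≠ r →
      r.1 = (π r).1 ∧ π (π r) = r ∧ ∃ b ∈ A, Mv N b (Equiv.swap r (π r)) := by
    intro a ha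
    obtain ⟨τ, hτ, hb⟩ := hof a ha
    refine ⟨pm 1 τ, mv_pm N hτ, ?_⟩
    rintro ⟨i, x⟩ hne
    have hix : τ i x ≠ x := fun h0 => hne (Prod.ext rfl h0)
    obtain ⟨h2, b, hbA, hb⟩ := hb i x hix
    refine ⟨rfl, Prod.ext rfl h2, b, hbA, ?_⟩
    have h1 := mv_pm N hb
    have h2 := pm_swap (k := k) (m := m) (p := (i, x)) (q := (i, τ i x)) rfl
    change pm 1 (Function.update 1 i (Equiv.swap x (τ i x))) = _ at h2
    rw [h2] at h1
    exact h1
  -- a transposition
  obtain ⟨p, q, hpq, hpq1, b, hb, hπ⟩ : ∃ p q : Pt k m, p ≠ q ∧ p.1 = q.1 ∧ ∃ b ∈ A, Mv N b (Equiv.swap p q) := by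
    by_contra hcon
    apply hoff.ne
    intro a ha
    obtain ⟨π, hπ, h1⟩ := hof' a ha
    rw [mem_cent_iff hA (hAP ha) hm hπ]
    ext1 r
    by_contra hne
    obtain ⟨h2, -, b, hb, h3⟩ := h1 r hne
    exact hcon ⟨r, π r, fun h0 => hne h0.symm, h2, b, hb, h3⟩
  have hbP : b ∈ P := hAP hb
  have hsw : Sw N p q := ⟨hpq, hpq1, b, hAS hb, hπ⟩
  -- the test vector `{r, 0}`
  have htest : ∀ r r' : Pt k m, r ≠ r' → r.1 = r'.1 → (∃ b ∈ A, Mv N b (Equiv.swap r r')) →
      ∃ y, IsC N y r (r.1, 0) ∧ r ≠ (r.1, 0) ∧ E N y r = 1 ∧ E N y r' = 0 ∧ y ∉ centralizer (A : Set G) := by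
    rintro r r' hne h1 ⟨b', hb', h2⟩
    have hs : Sw N r r' := ⟨hne, h1, b', hAS hb', h2⟩
    obtain ⟨y, hy⟩ := exists_isC (M := N) (p := r) (q := (r.1, 0)) rfl
    have hr0 : r ≠ (r.1, 0) := fun h3 => hs.nz hA hm (congrArg Prod.snd h3)
    have hr0' : r' ≠ (r.1, 0) := fun h3 => hs.symm.nz hA hm (congrArg Prod.snd h3)
    have e1 := hy.left hr0
    have e2 := hy.zero hne.symm hr0'
    refine ⟨y, hy, hr0, e1, e2, fun h3 => ?_⟩
    have h4 := eq_of_comm h2 hy.1 (by rw [mem_centralizer_iff.1 h3 b' hb', mul_inv_cancel_right])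
    rw [e1, e2] at h4
    exact one_ne_zero h4
  -- all transpositions are `(p q)`
  have huniq : ∀ r r' : Pt k m, r ≠ r' → r.1 = r'.1 → (∃ b ∈ A, Mv N b (Equiv.swap r r')) →
      (p = r ∧ q = r') ∨ (p = r' ∧ q = r) := by
    intro r r' hne h1 hex
    obtain ⟨w, hw, -, ew1, ew2, hwc⟩ := htest p q hpq hpq1 ⟨b, hb, hπ⟩
    obtain ⟨y, hy, hy0, ey1, ey2, hyc⟩ := htest r r' hne h1 hex
    obtain ⟨b', hb', hb'π⟩ := hex
    have hs' : Sw N r r' := ⟨hne, h1, b', hAS hb', hb'π⟩
    obtain ⟨d, hd, h2⟩ := hc w hw.1 hwc y hy.1 hyc b hb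
    obtain ⟨π, hdπ, hπd⟩ := hof' d hd
    have hm1 := hA.conj_mem hbP hw.1
    have hm2 := hA.conj_mem (hAP hd) hy.1
    -- the coordinates of `[w, b]`
    have eL : ∀ t, E N (b * w * b⁻¹ * w⁻¹) t = E N w (Equiv.swap p q t) + E N w t := by
      intro t
      have h3 := hπ w hw.1 (Equiv.swap p q t)
      rw [Equiv.swap_apply_self] at h3
      rw [E_mul N hm1 (inv_mem hw.1), E_inv N hw.1, h3]
    have eR : ∀ t, E N (d * y * d⁻¹ * y⁻¹) t = E N y (π⁻¹ t) + E N y t := by
      intro t
      have h3 := hdπ y hy.1 (π⁻¹ t)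
      rw [show π (π⁻¹ t) = t from π.apply_symm_apply t] at h3
      rw [E_mul N hm2 (inv_mem hy.1), E_inv N hy.1, h3]
    have hp1 : E N (d * y * d⁻¹ * y⁻¹) p = 1 := by
      rw [← h2, eL, Equiv.swap_apply_left, ew1, ew2, zero_add]
    have hq1 : E N (d * y * d⁻¹ * y⁻¹) q = 1 := by
      rw [← h2, eL, Equiv.swap_apply_right, ew1, ew2, add_zero]
    -- `π` fixes `(r.1, 0)`
    have hπ0 : π (r.1, 0) = (r.1, 0) := by
      by_contra h3
      obtain ⟨h4, -, b'', hb'', h5⟩ := hπd _ h3
      have h6 : Sw N (r.1, 0) (π (r.1, 0)) := ⟨fun h0 => h3 h0.symm, h4, b'', hAS hb'', h5⟩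
      exact h6.nz hA hm rfl
    -- support of `[y, d]`
    have hsupp : ∀ t, E N (d * y * d⁻¹ * y⁻¹) t = 1 → t = r ∨ t = π r := by
      intro t ht
      by_contra hcon
      push Not at hcon
      rw [eR] at ht
      have h3 : π⁻¹ t ≠ r := fun h4 => hcon.2 (by rw [← h4]; exact (π.apply_symm_apply t).symm)
      by_cases h4 : t = (r.1, 0)
      · have h5 : π⁻¹ t = (r.1, 0) := by
          rw [h4, Equiv.Perm.inv_eq_iff_eq]
          exact hπ0.symm
        rw [h5, h4] at ht
        have h6 : E N y (r.1, 0) = 1 := hy.right hy0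
        rw [h6] at ht
        exact absurd ht (by decide)
      · have h5 : π⁻¹ t ≠ (r.1, 0) := fun h6 => h4 (by rw [← (show π (π⁻¹ t) = t from π.apply_symm_apply t), h6, hπ0])
        rw [hy.zero h3 h5, hy.zero hcon.1 h4, add_zero] at ht
        exact zero_ne_one ht
    have h3 := hsupp p hp1
    have h4 := hsupp q hq1
    have h5 : π r ≠ r := by
      intro h6
      rw [h6, or_self] at h3 h4
      exact hpq (h3.trans h4.symm)
    obtain ⟨h6, -, b'', hb'', h7⟩ := hπd r h5
    have h8 : π r = r' := Sw.uniq hA hS2 hm ⟨fun h0 => h5 h0.symm, h6, b'', hAS hb'', h7⟩ hs'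
    rw [h8] at h3 h4
    rcases h3 with h3 | h3 <;> rcases h4 with h4 | h4
    · exact absurd (h3.trans h4.symm) hpq
    · exact Or.inl ⟨h3, h4⟩
    · exact Or.inr ⟨h3, h4⟩
    · exact absurd (h3.trans h4.symm) hpq
  refine ⟨p, q, hAS, hsw, ⟨b, hb, hπ⟩, fun a ha => ?_⟩
  obtain ⟨π, hπa, hπr⟩ := hof' a ha
  by_cases h1 : π p = p
  · left
    rw [mem_cent_iff hA (hAP ha) hm hπa]
    ext1 r
    by_contra hne
    obtain ⟨h2, h3, h4⟩ := hπr r hne
    rcases huniq r (π r) (fun h0 => hne h0.symm) h2 h4 with ⟨h5, -⟩ | ⟨h5, -⟩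
    · exact hne (by rw [← h5]; exact h1)
    · have h6 : π (π r) = π r := by rw [← h5]; exact h1
      exact hne (π.injective h6)
  · right
    obtain ⟨h2, h3, h4⟩ := hπr p h1
    have h5 : π p = q := by
      rcases huniq p (π p) (fun h0 => h1 h0.symm) h2 h4 with ⟨-, h5⟩ | ⟨h5, -⟩
      · exact h5.symm
      · exact absurd h5.symm h1
    have h6 : π q = p := by rw [← h5]; exact h3
    have h7 : π = Equiv.swap p q := by
      ext1 r
      by_cases hr : π r = r
      · have h8 : r ≠ p := fun h9 => h1 (by rw [← h9]; exact hr)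
        have h9 : r ≠ q := fun h9 => by
          rw [h9, h6] at hr
          exact hpq hr
        rw [Equiv.swap_apply_of_ne_of_ne h8 h9, hr]
      · obtain ⟨h8, h9, h10⟩ := hπr r hr
        rcases huniq r (π r) (fun h0 => hr h0.symm) h8 h10 with ⟨h11, h12⟩ | ⟨h11, h12⟩
        · rw [← h11, Equiv.swap_apply_left, h5]
        · rw [← h12, Equiv.swap_apply_right, h6]
    rw [← h7]
    exact hπa

/-- **An offender with constant commutators is a minimal offender.** -/
theorem min_of_const (M : SymKM (S : Subgroup G) P V ⊥ k m) (hA : Amb (S : Subgroup G) P V) (hm : 1 ≤ m)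
    {A : Subgroup G} (hAS : A ≤ (S : Subgroup G)) (hoff : OffM V A) (hc : Const V A) :
    MinOffM V (S : Subgroup G) A := by
  obtain ⟨p, q, h⟩ := ad_of_const M hA hm hAS hoff hc
  have hAP : A ≤ P := hAS.trans hA.TH
  refine ⟨hAS, hoff, fun B hBA hB => ?_⟩
  have h1 : (centralizer (V : Set G)).relIndex A ≤ 2 := by
    refine rel_le_two fun a ha b hb han hbn => ?_
    have ha' := (h.all a ha).resolve_left han
    have hb' := (h.all b hb).resolve_left hbn
    have h2 := ha'.mul hA hb' (hAP hb)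
    rw [Equiv.swap_mul_self] at h2
    exact (mem_cent_iff hA (mul_mem (hAP ha) (hAP hb)) hm h2).2 rfl
  have h2 : (centralizer (V : Set G)).relIndex B ≠ 0 :=
    FiniteIndex.index_ne_zero (H := (centralizer (V : Set G)).subgroupOf B)
  have h3 : (centralizer (V : Set G)).relIndex B ≠ 1 := fun h0 => hB.ne (relIndex_eq_one.1 h0)
  omega

end Cfsg.Agent.Omega.NOThreeL.NF.SymRP

end

section


/-!
# An offender is generated by minimal offenders modulo its kernel

`P` with `ConclM` (natural modules or even-subset modules, `C_{V_P}(O²(P)) = 1`), `A ≤ S` an offender on `V_P`,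
`X ≤ V_P` a subgroup moved by `A`: some minimal offender `B ≤ A` moves `X` (`exists_min_mov`).
-/

set_option autoImplicit false
set_option linter.unusedSectionVars false

namespace Cfsg.Agent.Omega.NOThreeL.NF.NatR

open Subgroup Cfsg Cfsg.Agent.ZN Cfsg.Agent.ZN.ChoiceBase
open Cfsg.Agent.Omega.FFThm (ElemM OffM NoOverM ConclM NatKM ActsSL)
open Cfsg.Agent.Omega.NatPair
open Cfsg.Agent.Lib.SL2Mat

universe u

variable {G : Type u} [Group G] {F : Type} [Field F] {S P W : Subgroup G} {k : ℕ}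
variable {M : NatKM F S P W ⊥ k} {A : Subgroup G} (hPW : P ≤ normalizer (W : Set G)) (hSP : S ≤ P)
include hPW hSP

/-- the elements of `A` which act in the root group of the `i`-th factor -/
def rootIn (M : NatKM F S P W ⊥ k) (hPW : P ≤ normalizer (W : Set G)) (hAP : A ≤ P) (i : Fin k) : Subgroup G where
  carrier := {a | a ∈ A ∧ ∃ c : F, Ac M a (Pi.mulSingle i (up c))}
  mul_mem' := by
    rintro a b ⟨ha, c, hc⟩ ⟨hb, d, hd⟩
    refine ⟨mul_mem ha hb, c + d, ?_⟩
    rw [← mulSingle_mul]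
    exact Ac.mul hPW (hAP hb) hc hd
  one_mem' := ⟨one_mem _, 0, by
    rw [mulSingle_zero]
    exact ac_one (one_mem _)⟩
  inv_mem' := by
    rintro a ⟨ha, c, hc⟩
    refine ⟨inv_mem ha, -c, ?_⟩
    have h1 := Ac.inv hPW (hAP ha) hc
    rwa [← Pi.mulSingle_inv, up_inv] at h1

omit hSP in
theorem single_eq (i : Fin k) (c : F) : (fun j => up ((Pi.single i c : Fin k → F) j) :
    Fin k → Matrix.SpecialLinearGroup (Fin 2) F) = Pi.mulSingle i (up c) := by
  classical
  funext j
  by_cases hj : j = i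
  · subst hj; rw [Pi.single_eq_same, Pi.mulSingle_eq_same]
  · rw [Pi.single_eq_of_ne hj, Pi.mulSingle_eq_of_ne hj, up_zero]

/-- some root group in `A` moves `X` -/
theorem exists_rt_mov (M : NatKM F S P W ⊥ k) (hAS : A ≤ S) (hoff : OffM W A) {X : Subgroup G} (hXW : X ≤ W)
    (hX : ¬ A ≤ centralizer (X : Set G)) : ∃ i, ∃ B ≤ A, Rt M i B ∧ ¬ B ≤ centralizer (X : Set G) := by
  classical
  obtain ⟨I, h1, h2⟩ := M.offM A hAS hoff
  have hAP : A ≤ P := hAS.trans hSP
  by_contra hcon
  push Not at hcon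
  have hroot : ∀ i ∈ I, rootIn M hPW hAP i ≤ centralizer (X : Set G) := by
    intro i hi
    refine hcon i _ (fun a ha => ha.1) ⟨fun a ha => hAS ha.1, fun a ha => ha.2, fun c => ?_⟩
    obtain ⟨a, ha, hac⟩ := h2 (Pi.single i c) (fun l hl => by
      have : l ≠ i := fun h3 => hl (by rw [h3]; exact hi)
      rw [Pi.single_apply, if_neg this])
    have h3 : Ac M a (Pi.mulSingle i (up c)) := by
      rw [← single_eq hPW]
      exact hac.1
    exact ⟨a, ⟨ha, c, h3⟩, h3⟩
  have hWX : centralizer (W : Set G) ≤ centralizer (X : Set G) := centralizer_le hXW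
  have key : ∀ s : Finset (Fin k), ∀ a ∈ A, ∀ b : Fin k → F, (∀ i, i ∉ I → b i = 0) → (∀ i, i ∉ s → b i = 0) →
      Ac M a (fun i => up (b i)) → a ∈ centralizer (X : Set G) := by
    intro s
    induction s using Finset.induction_on with
    | empty =>
      intro a ha b _ hb hac
      refine hWX (cent_of_ac (M := M) hPW (hAP ha) ?_)
      have e : (fun i => up (b i) : Fin k → Matrix.SpecialLinearGroup (Fin 2) F) = 1 := by
        funext i
        rw [hb i (Finset.notMem_empty i), up_zero]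
        rfl
      rwa [e] at hac
    | insert j s hj ih =>
      intro a ha b hbI hb hac
      by_cases hjI : j ∈ I
      · obtain ⟨a₁, ha₁, hac₁⟩ := h2 (Pi.single j (b j)) (fun l hl => by
          have : l ≠ j := fun h3 => hl (by rw [h3]; exact hjI)
          rw [Pi.single_apply, if_neg this])
        have h3 : Ac M a₁ (Pi.mulSingle j (up (b j))) := by
          rw [← single_eq hPW]
          exact hac₁.1
        have h4 : a₁ ∈ centralizer (X : Set G) := hroot j hjI ⟨ha₁, b j, h3⟩
        have h5 : a * a₁⁻¹ ∈ centralizer (X : Set G) := by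
          refine ih _ (mul_mem ha (inv_mem ha₁)) (Function.update b j 0) ?_ ?_ ?_
          · intro i hi
            by_cases hij : i = j
            · rw [hij, Function.update_self]
            · rw [Function.update_of_ne hij, hbI i hi]
          · intro i hi
            by_cases hij : i = j
            · rw [hij, Function.update_self]
            · rw [Function.update_of_ne hij, hb i (by rw [Finset.mem_insert]; tauto)]
          · have h6 := Ac.mul hPW (hAP (inv_mem ha₁)) hac (Ac.inv hPW (hAP ha₁) h3)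
            have e : (fun i => up (b i) : Fin k → Matrix.SpecialLinearGroup (Fin 2) F) *
                (Pi.mulSingle j (up (b j)))⁻¹ = fun i => up (Function.update b j 0 i) := by
              funext i
              rw [Pi.mul_apply, Pi.inv_apply]
              by_cases hij : i = j
              · rw [hij, Pi.mulSingle_eq_same, Function.update_self, mul_inv_cancel, up_zero]
              · rw [Pi.mulSingle_eq_of_ne hij, Function.update_of_ne hij, inv_one, mul_one]
            rwa [e] at h6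
        have h6 := mul_mem h5 h4
        rwa [inv_mul_cancel_right] at h6
      · refine ih a ha b hbI (fun i hi => ?_) hac
        by_cases hij : i = j
        · rw [hij]; exact hbI j hjI
        · exact hb i (by rw [Finset.mem_insert]; tauto)
  apply hX
  intro a ha
  obtain ⟨b, hb, hac⟩ := h1 a ha
  exact key Finset.univ a ha b hb (fun i hi => absurd (Finset.mem_univ i) hi) hac.1

end Cfsg.Agent.Omega.NOThreeL.NF.NatR

namespace Cfsg.Agent.Omega.NOThreeL.NF.SymRP

open Subgroup Cfsg Cfsg.Agent.ZN Cfsg.Agent.ZN.ChoiceBase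
open Cfsg.Agent.Omega.FFThm (ElemM OffM NoOverM ConclM SymK SymKM ActsSym)
open Cfsg.Agent.Omega.Half (Amb)
open Cfsg.Agent.Omega.Half.SymA
open scoped Classical commutatorElement

universe u

variable {G : Type u} [Group G] [Finite G] {S : Sylow 2 G} {P V : Subgroup G} {k m : ℕ}

/-- the group generated by an element which acts as a transposition -/
theorem ad_zpowers (N : SymK (S : Subgroup G) P V ⊥ k m) (hA : Amb (S : Subgroup G) P V) (hm : 1 ≤ m)
    {b : G} (hb : b ∈ (S : Subgroup G)) {p q : Pt k m} (hpq : p ≠ q) (hpq1 : p.1 = q.1)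
    (hπ : Mv N b (Equiv.swap p q)) : AD N (zpowers b) p q ∧ OffM V (zpowers b) := by
  have hbP : b ∈ P := hA.TH hb
  have hsw : Sw N p q := ⟨hpq, hpq1, b, hb, hπ⟩
  have hbn : b ∉ centralizer (V : Set G) := fun h0 => by
    rw [mem_cent_iff hA hbP hm hπ] at h0
    exact hpq (Equiv.swap_eq_one_iff.1 h0)
  have hb2 : b ^ 2 ∈ centralizer (V : Set G) := by
    rw [pow_two]
    have h1 := hπ.mul hA hπ hbP
    rw [Equiv.swap_mul_self] at h1
    exact (mem_cent_iff hA (mul_mem hbP hbP) hm h1).2 rfl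
  have hz : ∀ x ∈ zpowers b, x ∈ centralizer (V : Set G) ∨ x * b ∈ centralizer (V : Set G) := by
    rintro x ⟨n, rfl⟩
    have key : ∀ j : ℤ, b ^ (2 * j) ∈ centralizer (V : Set G) := fun j => by
      rw [zpow_mul]
      exact zpow_mem (by exact_mod_cast hb2) j
    rcases Int.even_or_odd n with ⟨j, hj⟩ | ⟨j, hj⟩
    · left
      have : n = 2 * j := by omega
      simp only [this]
      exact key j
    · right
      have : b ^ n * b = b ^ (2 * (j + 1)) := by rw [← zpow_add_one, hj]; congr 1; ring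
      simp only [this]
      exact key _
  have hBne : ¬ zpowers b ≤ centralizer (V : Set G) := fun h0 => hbn (h0 (mem_zpowers b))
  refine ⟨⟨zpowers_le.2 hb, hsw, ⟨b, mem_zpowers b, hπ⟩, fun a ha => ?_⟩, ⟨⟨?_, ?_⟩, hBne, ?_⟩⟩
  · rcases hz a ha with h1 | h1
    · exact Or.inl h1
    · right
      have h2 : Mv N (a * b) 1 := by
        intro v hv r
        rw [← mem_centralizer_iff.1 h1 v hv, mul_inv_cancel_right]
        rfl
      have h3 : Mv N b⁻¹ (Equiv.swap p q) := by
        have h4 : Mv N (b⁻¹ * (b ^ 2)) (Equiv.swap p q) := by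
          have e : b⁻¹ * b ^ 2 = b := by rw [pow_two]; group
          rw [e]
          exact hπ
        have h5 : Mv N ((b ^ 2)⁻¹) 1 := by
          intro v hv r
          rw [← mem_centralizer_iff.1 (inv_mem hb2) v hv, mul_inv_cancel_right]
          rfl
        have h6 := h4.mul hA h5 (inv_mem (pow_mem hbP 2))
        rwa [mul_inv_cancel_right, mul_one] at h6
      have h4 := h2.mul hA h3 (inv_mem hbP)
      rwa [mul_inv_cancel_right, one_mul] at h4
  · rintro a ⟨n, rfl⟩
    change (b ^ n) ^ 2 ∈ _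
    have e : (b ^ n) ^ 2 = (b ^ 2) ^ n := by
      rw [← zpow_natCast, ← zpow_natCast, ← zpow_mul, ← zpow_mul]
      congr 1
      ring
    rw [e]
    exact zpow_mem hb2 n
  · rintro a ⟨n, rfl⟩ c ⟨l, rfl⟩
    have e : b ^ n * b ^ l * (b ^ n)⁻¹ * (b ^ l)⁻¹ = 1 := by group
    change b ^ n * b ^ l * (b ^ n)⁻¹ * (b ^ l)⁻¹ ∈ _
    rw [e]
    exact one_mem _
  · rw [FFThm.relIndex_le_iff]
    have h1 : (centralizer ((zpowers b : Subgroup G) : Set G)).relIndex V ≤ 2 := by
      have hiff : ∀ v ∈ V, v ∈ centralizer ((zpowers b : Subgroup G) : Set G) ↔ E N v p = E N v q := by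
        intro v hv
        constructor
        · intro h1
          refine eq_of_comm hπ hv ?_
          rw [mem_centralizer_iff.1 h1 b (mem_zpowers b), mul_inv_cancel_right]
        · intro h1
          have h2 := comm_of_eq hA hbP hπ hv h1
          rw [mul_inv_eq_iff_eq_mul] at h2
          rw [← zpowers_le, le_centralizer_iff, zpowers_le, mem_centralizer_iff]
          rintro _ ⟨j, rfl⟩
          have h3 : Commute b v := h2
          exact (h3.zpow_right j).eq.symm
      refine rel_le_two fun v hv w hw h1 h2 => ?_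
      rw [hiff v hv] at h1
      rw [hiff w hw] at h2
      rw [hiff _ (mul_mem hv hw), E_mul N hv hw, E_mul N hv hw]
      revert h1 h2
      generalize E N v p = a
      generalize E N v q = b
      generalize E N w p = c
      generalize E N w q = d
      revert a b c d
      decide
    have h2 : 2 ≤ (centralizer (V : Set G)).relIndex (zpowers b) := by
      have h2 : (centralizer (V : Set G)).relIndex (zpowers b) ≠ 0 :=
        FiniteIndex.index_ne_zero (H := (centralizer (V : Set G)).subgroupOf (zpowers b))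
      have h3 : (centralizer (V : Set G)).relIndex (zpowers b) ≠ 1 := fun h0 => hBne (relIndex_eq_one.1 h0)
      omega
    exact h1.trans h2

/-- a group which acts as one transposition is a minimal offender -/
theorem AD.minOff {N : SymK (S : Subgroup G) P V ⊥ k m} (hA : Amb (S : Subgroup G) P V) (hm : 1 ≤ m)
    {A : Subgroup G} {p q : Pt k m} (h : AD N A p q) (hoff : OffM V A) : MinOffM V (S : Subgroup G) A := by
  have hAP : A ≤ P := h.le.trans hA.TH
  refine ⟨h.le, hoff, fun B hBA hB => ?_⟩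
  have h1 : (centralizer (V : Set G)).relIndex A ≤ 2 := by
    refine rel_le_two fun a ha b hb han hbn => ?_
    have ha' := (h.all a ha).resolve_left han
    have hb' := (h.all b hb).resolve_left hbn
    have h2 := ha'.mul hA hb' (hAP hb)
    rw [Equiv.swap_mul_self] at h2
    exact (mem_cent_iff hA (mul_mem (hAP ha) (hAP hb)) hm h2).2 rfl
  have h2 : (centralizer (V : Set G)).relIndex B ≠ 0 :=
    FiniteIndex.index_ne_zero (H := (centralizer (V : Set G)).subgroupOf B)
  have h3 : (centralizer (V : Set G)).relIndex B ≠ 1 := fun h0 => hB.ne (relIndex_eq_one.1 h0)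
  omega

/-- some transposition in `A` moves `X` -/
theorem exists_ad_mov (M : SymKM (S : Subgroup G) P V ⊥ k m) (hA : Amb (S : Subgroup G) P V) (hm : 1 ≤ m)
    {A : Subgroup G} (hAS : A ≤ (S : Subgroup G)) (hoff : OffM V A) {X : Subgroup G} (hXV : X ≤ V)
    (hX : ¬ A ≤ centralizer (X : Set G)) :
    ∃ B ≤ A, MinOffM V (S : Subgroup G) B ∧ ¬ B ≤ centralizer (X : Set G) := by
  set N := M.toSymK with hN
  obtain ⟨-, hof⟩ := M.offM A hAS hoff
  have hAP : A ≤ P := hAS.trans hA.TH
  by_contra hcon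
  push Not at hcon
  -- the element `a` and its transpositions
  have hof' : ∀ a ∈ A, ∃ π : Equiv.Perm (Pt k m), Mv N a π ∧ ∀ r, π r ≠ r →
      r.1 = (π r).1 ∧ π (π r) = r ∧ ∃ b ∈ A, Mv N b (Equiv.swap r (π r)) := by
    intro a ha
    obtain ⟨τ, hτ, hb⟩ := hof a ha
    refine ⟨pm 1 τ, mv_pm N hτ, ?_⟩
    rintro ⟨i, x⟩ hne
    have hix : τ i x ≠ x := fun h0 => hne (Prod.ext rfl h0)
    obtain ⟨h2, b, hbA, hb⟩ := hb i x hix
    refine ⟨rfl, Prod.ext rfl h2, b, hbA, ?_⟩
    have h1 := mv_pm N hb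
    have h2 := pm_swap (k := k) (m := m) (p := (i, x)) (q := (i, τ i x)) rfl
    change pm 1 (Function.update 1 i (Equiv.swap x (τ i x))) = _ at h2
    rw [h2] at h1
    exact h1
  have hVX : centralizer (V : Set G) ≤ centralizer (X : Set G) := centralizer_le hXV
  have key : ∀ n : ℕ, ∀ a ∈ A, ∀ π : Equiv.Perm (Pt k m), Mv N a π → π.support.card ≤ n →
      a ∈ centralizer (X : Set G) := by
    intro n
    induction n with
    | zero =>
      intro a ha π hπ hn
      have h1 : π = 1 := by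
        rw [← Equiv.Perm.support_eq_empty_iff, ← Finset.card_eq_zero]
        omega
      exact hVX ((mem_cent_iff hA (hAP ha) hm hπ).2 h1)
    | succ n ih =>
      intro a ha π hπ hn
      by_cases hπ1 : π = 1
      · exact hVX ((mem_cent_iff hA (hAP ha) hm hπ).2 hπ1)
      obtain ⟨π', hπ', hr⟩ := hof' a ha
      have hee : π' = π := by
        have h1 : Mv N (a * a⁻¹) (π' * π⁻¹) := by
          have h2 : Mv N a⁻¹ π⁻¹ := by
            intro v hv r
            have h3 := hπ (a⁻¹ * v * a⁻¹⁻¹) (hA.conj_mem (hAP (inv_mem ha)) hv) (π⁻¹ r)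
            have e : a * (a⁻¹ * v * a⁻¹⁻¹) * a⁻¹ = v := by group
            rw [e, show π (π⁻¹ r) = r from π.apply_symm_apply r] at h3
            exact h3.symm
          exact hπ'.mul hA h2 (hAP (inv_mem ha))
        rw [mul_inv_cancel] at h1
        have h2 := (mem_cent_iff hA (one_mem P) hm h1).1 (one_mem _)
        exact mul_inv_eq_one.1 h2
      rw [hee] at hr
      obtain ⟨r, hrne⟩ : ∃ r, π r ≠ r := by
        by_contra hall
        push Not at hall
        exact hπ1 (Equiv.ext hall)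
      obtain ⟨h1, h2, b, hb, hbπ⟩ := hr r hrne
      have hAD := ad_zpowers N hA hm (hAS hb) (fun h0 => hrne h0.symm) h1 hbπ
      have hbX : b ∈ centralizer (X : Set G) :=
        hcon _ (zpowers_le.2 hb) (hAD.1.minOff hA hm hAD.2) (mem_zpowers b)
      have h3 : a * b ∈ centralizer (X : Set G) := by
        refine ih _ (mul_mem ha hb) (π * Equiv.swap r (π r)) (hπ.mul hA hbπ (hAP hb)) ?_
        have h4 : (π * Equiv.swap r (π r)).support ⊆ π.support.erase r := by
          intro x hx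
          rw [Equiv.Perm.mem_support] at hx
          rw [Finset.mem_erase, Equiv.Perm.mem_support]
          constructor
          · rintro rfl
            apply hx
            rw [Equiv.Perm.mul_apply, Equiv.swap_apply_left, h2]
          · intro h5
            by_cases hxr : x = r
            · exact hrne (hxr ▸ h5)
            · by_cases hxr' : x = π r
              · apply hrne
                rw [hxr', h2] at h5
                exact h5.symm
              · apply hx
                rw [Equiv.Perm.mul_apply, Equiv.swap_apply_of_ne_of_ne hxr hxr', h5]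
        have h5 := Finset.card_le_card h4
        rw [Finset.card_erase_of_mem (Equiv.Perm.mem_support.2 hrne)] at h5
        omega
      have h4 := mul_mem h3 (inv_mem hbX)
      rwa [mul_inv_cancel_right] at h4
  apply hX
  intro a ha
  obtain ⟨π, hπ, -⟩ := hof' a ha
  exact key _ a ha π hπ le_rfl

end Cfsg.Agent.Omega.NOThreeL.NF.SymRP

namespace Cfsg.Agent.Omega.NO3S.AllGood

open Subgroup Cfsg Cfsg.Agent.ZN Cfsg.Agent.ZN.ChoiceBase Cfsg.Agent.Omega.MinPar
open Cfsg.Agent.Omega.FFThm (ElemM OffM NoOverM ConclM StmtM)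
open Cfsg.Agent.Omega.NOThreeL.NF (MinOffM)
open Cfsg.Agent.Omega.FrameFF (cv)
open Cfsg.Agent.ZN.ChoiceSit

universe u

variable {G : Type u} [Group G] [Finite G]

/-- **Some minimal offender in `A` moves `X`.** -/
theorem exists_min_mov (hFF : StmtM.{u}) (hc : IsCharacteristicTwoType G) (S : Sylow 2 G) {P : Subgroup G}
    (hP : IsParS (S : Subgroup G) P) (hcv : cv (S : Subgroup G) P = ⊥) {A : Subgroup G} (hAS : A ≤ (S : Subgroup G))
    (hoff : OffM (zl (S : Subgroup G) P) A) {X : Subgroup G} (hXV : X ≤ zl (S : Subgroup G) P)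
    (hX : ¬ A ≤ centralizer (X : Set G)) :
    ∃ B ≤ A, MinOffM (zl (S : Subgroup G) P) (S : Subgroup G) B ∧ ¬ B ≤ centralizer (X : Set G) := by
  obtain ⟨-, hC⟩ := hFF G (S : Subgroup G) P (FFThm.syl_of_sylow S hP.le) hP.toIsMinPar (hP.isLoc.char2 S hc)
    ⟨A, hAS.trans hP.le, hoff⟩
  have hPW : P ≤ normalizer (zl (S : Subgroup G) P : Set G) :=
    Cfsg.Agent.MinSimple.VModule.le_normalizer_zl _ _
  rcases hC with ⟨F, _, _, _, k, hk, ⟨M⟩⟩ | ⟨k, n, hk, hn, ⟨M⟩⟩
  · rw [hcv] at M
    obtain ⟨i, B, hBA, hB, hBX⟩ := NOThreeL.NF.NatR.exists_rt_mov hPW hP.le M hAS hoff hXV hX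
    exact ⟨B, hBA, hB.minOff hPW hP.le, hBX⟩
  · rw [hcv] at M
    exact NOThreeL.NF.SymRP.exists_ad_mov M (Half.amb_of_loc hc S hP.isLoc) (by omega) hAS hoff hXV hX

end Cfsg.Agent.Omega.NO3S.AllGood

end

section


/-!
# GammaFF, THEOREM N (#21337 helper422), fact (D')

`P ∈ P*(S)` with `C_{V_P}(O²(P)) = 1`; `A, B ≤ S` minimal offenders on `V_P` with the same centre
`[V_P, A] = [V_P, B]` induce the same group on `V_P` (`same`): a full root group, resp. a transposition.
-/

set_option autoImplicit false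
set_option linter.unusedSectionVars false

namespace Cfsg.Agent.Omega.NOThreeL.NF.NatR

open Subgroup Cfsg Cfsg.Agent.ZN Cfsg.Agent.ZN.ChoiceBase
open Cfsg.Agent.Omega.FFThm (ElemM OffM NoOverM ConclM NatKM ActsSL)
open Cfsg.Agent.Omega.NatPair
open Cfsg.Agent.Lib.SL2Mat
open scoped commutatorElement

universe u

variable {G : Type u} [Group G] {F : Type} [Field F] {S P W : Subgroup G} {k : ℕ}

/-- **(D')**, natural case -/
theorem same [Finite G] [CharP F 2] (M : NatKM F S P W ⊥ k) (hPW : P ≤ normalizer (W : Set G)) (hSP : S ≤ P)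
    {A B : Subgroup G} (hA : MinOffM W S A) (hB : MinOffM W S B) (he : ⁅W, A⁆ = ⁅W, B⁆) {a : G} (ha : a ∈ A) :
    ∃ b ∈ B, ∀ x ∈ W, a * x * a⁻¹ = b * x * b⁻¹ := by
  obtain ⟨i, hi⟩ := Rt.of hPW hSP (M := M) hA
  obtain ⟨j, hj⟩ := Rt.of hPW hSP (M := M) hB
  have hij : i = j := by
    rw [hi.comm_eq hPW hSP, hj.comm_eq hPW hSP] at he
    exact ln_injective (M := M) he
  subst hij
  obtain ⟨c, hc⟩ := hi.acts a ha
  obtain ⟨b, hb, hbc⟩ := hj.ex c
  refine ⟨b, hb, fun x hx => ?_⟩
  refine e_inj (M := M) (cmem hPW (hSP (hA.le ha)) hx) (cmem hPW (hSP (hB.le hb)) hx) ?_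
  funext l
  rw [hc x hx l, hbc x hx l]

end Cfsg.Agent.Omega.NOThreeL.NF.NatR

namespace Cfsg.Agent.Omega.NOThreeL.NF.SymRP

open Subgroup Cfsg Cfsg.Agent.ZN Cfsg.Agent.ZN.ChoiceBase
open Cfsg.Agent.Omega.FFThm (ElemM OffM NoOverM ConclM SymK SymKM ActsSym)
open Cfsg.Agent.Omega.Half (Amb)
open Cfsg.Agent.Omega.Half.SymA
open Cfsg.Agent.Omega.NOThreeL.FourLine (mem_zpowers_iff)
open scoped Classical commutatorElement

universe u

variable {G : Type u} [Group G] [Finite G] {S : Sylow 2 G} {P V : Subgroup G} {k m : ℕ}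

/-- **(D')**, symmetric case -/
theorem same (M : SymKM (S : Subgroup G) P V ⊥ k m) (hA : Amb (S : Subgroup G) P V) (hm : 1 ≤ m)
    {A B : Subgroup G} (h₁ : MinOffM V (S : Subgroup G) A) (h₂ : MinOffM V (S : Subgroup G) B)
    (he : ⁅V, A⁆ = ⁅V, B⁆) {a : G} (ha : a ∈ A) : ∃ b ∈ B, ∀ x ∈ V, a * x * a⁻¹ = b * x * b⁻¹ := by
  set N := M.toSymK with hN
  obtain ⟨⟨p, q, hp⟩, -⟩ := exists_ad M hA hm h₁
  obtain ⟨⟨r, s, hr⟩, -⟩ := exists_ad M hA hm h₂
  obtain ⟨c, hc⟩ := exists_isC (M := N) hp.sw.2.1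
  obtain ⟨d, hd⟩ := exists_isC (M := N) hr.sw.2.1
  have hcd : c = d := by
    rw [hp.comm_eq hA hm hc, hr.comm_eq hA hm hd] at he
    have h3 : c ∈ zpowers d := he ▸ mem_zpowers c
    have hd2 : d * d = 1 := sq_one hA hd.1
    obtain ⟨n, hn⟩ := h3
    have hc1 := hc.ne_one hp.sw.1
    rcases Int.even_or_odd n with ⟨j, hj⟩ | ⟨j, hj⟩
    · exfalso
      apply hc1
      change d ^ n = c at hn
      rw [← hn, hj, ← two_mul, zpow_mul]
      have e : d ^ (2 : ℤ) = 1 := by
        rw [zpow_two]; exact hd2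
      rw [e, one_zpow]
    · change d ^ n = c at hn
      rw [← hn, hj, zpow_add_one, zpow_mul]
      have e : d ^ (2 : ℤ) = 1 := by
        rw [zpow_two]; exact hd2
      rw [e, one_zpow, one_mul]
  subst hcd
  -- the pairs are equal
  have hsw : Equiv.swap p q = Equiv.swap r s := by
    have e1 := hc.left hp.sw.1
    have e2 := hc.right hp.sw.1
    have k1 : p = r ∨ p = s := by
      by_contra hcon
      push Not at hcon
      rw [hd.zero hcon.1 hcon.2] at e1
      exact zero_ne_one e1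
    have k2 : q = r ∨ q = s := by
      by_contra hcon
      push Not at hcon
      rw [hd.zero hcon.1 hcon.2] at e2
      exact zero_ne_one e2
    rcases k1 with rfl | rfl <;> rcases k2 with rfl | rfl
    · exact absurd rfl hp.sw.1
    · rfl
    · exact Equiv.swap_comm _ _
    · exact absurd rfl hp.sw.1
  rcases hp.all a ha with h3 | h3
  · refine ⟨1, one_mem _, fun x hx => ?_⟩
    rw [one_mul, inv_one, mul_one, ← mem_centralizer_iff.1 h3 x hx, mul_inv_cancel_right]
  · obtain ⟨b, hb, hb'⟩ := hr.ex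
    rw [← hsw] at hb'
    refine ⟨b, hb, fun x hx => ?_⟩
    have haP : a ∈ P := hA.TH (h₁.le ha)
    have hbP : b ∈ P := hA.TH (h₂.le hb)
    refine inj N (hA.conj_mem haP hx) (hA.conj_mem hbP hx) fun t => ?_
    have e1 := h3 x hx (Equiv.swap p q t)
    have e2 := hb' x hx (Equiv.swap p q t)
    rw [Equiv.swap_apply_self] at e1 e2
    rw [e1, e2]

end Cfsg.Agent.Omega.NOThreeL.NF.SymRP

namespace Cfsg.Agent.Omega.NO3S.AllGood

open Subgroup Cfsg Cfsg.Agent.ZN Cfsg.Agent.ZN.ChoiceBase Cfsg.Agent.Omega.MinPar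
open Cfsg.Agent.Omega.FFThm (ElemM OffM NoOverM ConclM StmtM)
open Cfsg.Agent.Omega.NOThreeL.NF (MinOffM)
open Cfsg.Agent.Omega.FrameFF (cv)
open Cfsg.Agent.ZN.ChoiceSit
open scoped commutatorElement

universe u

variable {G : Type u} [Group G] [Finite G]

/-- **(D')** Minimal offenders with the same centre induce the same group. -/
theorem same (hFF : StmtM.{u}) (hc : IsCharacteristicTwoType G) (S : Sylow 2 G) {P : Subgroup G}
    (hP : IsParS (S : Subgroup G) P) (hcv : cv (S : Subgroup G) P = ⊥) (A B : Subgroup G)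
    (hA : MinOffM (zl (S : Subgroup G) P) (S : Subgroup G) A) (hB : MinOffM (zl (S : Subgroup G) P) (S : Subgroup G) B)
    (he : ⁅zl (S : Subgroup G) P, A⁆ = ⁅zl (S : Subgroup G) P, B⁆) : ∀ a ∈ A, ∃ b ∈ B,
      ∀ x ∈ zl (S : Subgroup G) P, a * x * a⁻¹ = b * x * b⁻¹ := by
  intro a ha
  obtain ⟨-, hC⟩ := hFF G (S : Subgroup G) P (FFThm.syl_of_sylow S hP.le) hP.toIsMinPar (hP.isLoc.char2 S hc)
    ⟨A, hA.le.trans hP.le, hA.off⟩
  have hPW : P ≤ normalizer (zl (S : Subgroup G) P : Set G) :=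
    Cfsg.Agent.MinSimple.VModule.le_normalizer_zl _ _
  rcases hC with ⟨F, _, _, _, k, hk, ⟨M⟩⟩ | ⟨k, n, hk, hn, ⟨M⟩⟩
  · rw [hcv] at M
    exact NOThreeL.NF.NatR.same M hPW hP.le hA hB he ha
  · rw [hcv] at M
    exact NOThreeL.NF.SymRP.same M (Half.amb_of_loc hc S hP.isLoc) (by omega) hA hB he ha

end Cfsg.Agent.Omega.NO3S.AllGood

end
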