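import Cfsg.Agent.Mrg.Omega.NOne.Flat.Off

section


/-!
# GammaFF, BETA for FF lines: the passive types (THEOREM PAS: #20445 (P1) helper793, #20425 helper800)

`L = V_{P₀}` the line of the active type, `c = V_{P'}` the line of a passive type `P'` (`W ≤ O₂(P')`, `c ≤ F`).

* `Pre` : the situation; `B ⊴ C_G(F)` the group generated by the good lines, `I = V ∩ B`;
* `Pre.count` : `c^p` bad (`p ∈ P₀`), `V = c^p E`, `a ∈ B^(p⁻¹)`, `g ∈ P'`, `W^(g⁻¹ a⁻¹ g) ≤ C(L)` ⟹ `a` centralises `c`;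
* `Pre.norm_R0` : a bad `c^p` ⟹ `P'` normalises `R₀ = ⟨ρ^S⟩`;
* `Pre.pas` : `c^p ≤ E` for all `p ∈ P₀`.
-/

set_option autoImplicit false
set_option linter.unusedSectionVars false

namespace Cfsg.Agent.Omega.NO3S.Pas

open Subgroup Cfsg Cfsg.Agent.Omega.NoFF.Basic
open Cfsg.Agent.Omega.NOne.NearFF (Near c c_def c_inv)
open Cfsg.Agent.Omega.NOne.Flat (Hyp EE WW NN BadX)
open Cfsg.Agent.Omega.NOThreeL.Low.Key (BH conj_eq_of_norm' norm_conj_mem c_eq_one')
open Cfsg.Agent.ZN (o2)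
open scoped Pointwise

universe u

local notation "cm" => Cfsg.Agent.Omega.NOne.NearFF.c

variable {G : Type u} [Group G] [Finite G]

theorem rne (H K : Subgroup G) : H.relIndex K ≠ 0 := index_ne_zero_of_finite

/-- `V = A J` ⟹ `|V : J| ≤ |A : A ∩ J|` -/
theorem relIndex_le_of_span {V A J : Subgroup G} (h : ∀ v ∈ V, ∃ a ∈ A, a ∈ V ∧ a⁻¹ * v ∈ J) :
    J.relIndex V ≤ J.relIndex A := by
  rw [relIndex, relIndex, index_eq_card, index_eq_card]
  have h' : ∀ v : V, ∃ a : A, (a : G)⁻¹ * v ∈ J := fun v => by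
    obtain ⟨a, ha, -, h1⟩ := h v v.2
    exact ⟨⟨a, ha⟩, h1⟩
  choose f hf using h'
  refine Nat.card_le_card_of_injective
    (fun q : V ⧸ J.subgroupOf V => (QuotientGroup.mk (f (Quotient.out q)) : A ⧸ J.subgroupOf A)) ?_
  intro q q' hq
  have h1 : (QuotientGroup.mk (f (Quotient.out q)) : A ⧸ J.subgroupOf A) = QuotientGroup.mk (f (Quotient.out q')) := hq
  rw [QuotientGroup.eq, mem_subgroupOf] at h1
  rw [← Quotient.out_eq q, ← Quotient.out_eq q']
  change (QuotientGroup.mk (Quotient.out q) : V ⧸ J.subgroupOf V) = QuotientGroup.mk (Quotient.out q')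
  rw [QuotientGroup.eq, mem_subgroupOf]
  have h2 := hf (Quotient.out q)
  have h3 := hf (Quotient.out q')
  have e : (((Quotient.out q)⁻¹ * Quotient.out q' : V) : G) =
      ((f (Quotient.out q) : G)⁻¹ * (Quotient.out q : V))⁻¹ * ((f (Quotient.out q))⁻¹ * f (Quotient.out q') : A) *
        ((f (Quotient.out q') : G)⁻¹ * (Quotient.out q' : V)) := by
    push_cast
    group
  rw [e]
  exact mul_mem (mul_mem (inv_mem h2) h1) h3

theorem conj_iSup_le {ι : Sort*} {H : ι → Subgroup G} {A : Subgroup G} {g : G}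
    (h1 : ∀ i, MulAut.conj g • H i ≤ A) : MulAut.conj g • (⨆ i, H i) ≤ A := by
  have h2 : (⨆ i, H i) ≤ MulAut.conj g⁻¹ • A := iSup_le fun i => by
    have h3 := (conj_le_iff (g := g⁻¹)).2 (h1 i)
    rwa [conj_conj, inv_mul_cancel, map_one, one_smul] at h3
  have h3 := (conj_le_iff (g := g)).2 h2
  rwa [conj_conj, mul_inv_cancel, map_one, one_smul] at h3

theorem relIndex_conj (g : G) (H K : Subgroup G) :
    (MulAut.conj g • H).relIndex (MulAut.conj g • K) = H.relIndex K :=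
  relIndex_pointwise_smul (MulAut.conj g) H K

/-- The situation: active type `P` with line `L`, passive type `P'` with line `c`. -/
structure Pre (S V F B P P' L c : Subgroup G) : Prop extends BH V F B where
  SP : S ≤ P
  SP' : S ≤ P'
  PV : P ≤ normalizer (V : Set G)
  PV' : P' ≤ normalizer (V : Set G)
  PL : P ≤ normalizer (L : Set G)
  Pc : P' ≤ normalizer (c : Set G)
  /-- `C_S(L) = O₂(P)` -/
  PQ : P ≤ normalizer ((S ⊓ centralizer (L : Set G) : Subgroup G) : Set G)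
  WS : WW V F ≤ S
  /-- `W ≤ O₂(P')` -/
  WS' : ∀ g ∈ P', MulAut.conj g • WW V F ≤ S
  /-- `L ≤ E`, `L ≤ I` -/
  LV : L ≤ V
  LB : L ≤ B
  mov : ¬ WW V F ≤ centralizer (L : Set G)
  cF : c ≤ F
  /-- the lines of type `P'` of the chambers which contain `W` are in `B` -/
  line : ∀ y ∈ P ⊔ P', WW V F ≤ MulAut.conj y • S → MulAut.conj y • c ≤ B

namespace Pre

variable {S V F B P P' L c : Subgroup G} (h : Pre S V F B P P' L c)
include h

theorem cV : c ≤ V := h.cF.trans h.toHyp.F_le_V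

theorem L_le_E : L ≤ EE V F := (le_inf h.LV h.LB).trans h.toBH.I_le_E

theorem B_cent_L : B ≤ centralizer (L : Set G) := comm_symm (h.LB.trans h.abel)

theorem B_le_Q : B ≤ S ⊓ centralizer (L : Set G) := le_inf (h.le_W.trans h.WS) h.B_cent_L

theorem conjB_le_Q {p : G} (hp : p ∈ P) : MulAut.conj p • B ≤ S ⊓ centralizer (L : Set G) := by
  have h1 := (conj_le_iff (g := p)).2 h.B_le_Q
  rwa [conj_eq_of_norm' (h.PQ hp)] at h1

theorem not_I_le_F : ¬ V ⊓ B ≤ F := by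
  intro h1
  apply h.mov
  intro s hs
  rw [mem_centralizer_iff]
  intro l hl
  exact Hyp.F_comm (h1 ⟨h.LV hl, h.LB hl⟩) (Hyp.W_le_X hs)

/-- a bad `c^p` is moved by `B` -/
theorem exists_mov {p : G} (hp : p ∈ P) (hbad : ¬ MulAut.conj p • c ≤ EE V F) :
    ∃ b ∈ B, b ∉ centralizer ((MulAut.conj p • c : Subgroup G) : Set G) := by
  by_contra hall
  push Not at hall
  obtain ⟨w, hw, hwE⟩ := SetLike.not_le_iff_exists.1 hbad
  have hcV : MulAut.conj p • c ≤ V := by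
    have h1 := (conj_le_iff (g := p)).2 h.cV
    rwa [conj_eq_of_norm' (h.PV hp)] at h1
  obtain ⟨b, hb, hbN⟩ := h.toBH.exists_not_mem_NN h.not_I_le_F
  refine hbN (h.toBH.mem_NN_of_c (hcV hw) hwE hb ?_)
  rw [c_eq_one' (mem_centralizer_iff.1 (hall b hb) w hw)]
  exact one_mem _

/-- `U₀ = ⟨c^P⟩` -/
def U (_h : Pre S V F B P P' L c) : Subgroup G := ⨆ x : P, MulAut.conj (x : G) • c

theorem conj_le_U {x : G} (hx : x ∈ P) : MulAut.conj x • c ≤ h.U :=
  le_iSup (fun x : P => MulAut.conj (x : G) • c) ⟨x, hx⟩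

theorem U_le {A : Subgroup G} (h1 : ∀ x ∈ P, MulAut.conj x • c ≤ A) : h.U ≤ A := iSup_le fun x => h1 x x.2

theorem conj_U {p : G} (hp : p ∈ P) : MulAut.conj p • h.U ≤ h.U := by
  refine conj_iSup_le fun x => ?_
  rw [conj_conj]
  exact h.conj_le_U (mul_mem hp x.2)

theorem P_norm_U : P ≤ normalizer (h.U : Set G) := by
  intro p hp
  have h1 : MulAut.conj p • h.U = h.U := by
    refine le_antisymm (h.conj_U hp) ?_
    have h2 := (conj_le_iff (g := p)).2 (h.conj_U (inv_mem hp))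
    rwa [conj_conj, mul_inv_cancel, map_one, one_smul] at h2
  rw [mem_normalizer_iff]
  intro x
  constructor
  · intro hx
    rw [← h1, mem_conj]
    have e : p⁻¹ * (p * x * p⁻¹) * p = x := by group
    rwa [e]
  · intro hx
    rw [← h1, mem_conj] at hx
    have e : p⁻¹ * (p * x * p⁻¹) * p = x := by group
    rwa [e] at hx

theorem U_le_V : h.U ≤ V := h.U_le fun x hx => by
  have h1 := (conj_le_iff (g := x)).2 h.cV
  rwa [conj_eq_of_norm' (h.PV hx)] at h1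

theorem c_le_U : c ≤ h.U := by
  have := h.conj_le_U (one_mem P)
  rwa [map_one, one_smul] at this

/-- **(b)** `V = U₀ F` -/
theorem span {p : G} (hp : p ∈ P) (hbad : ¬ MulAut.conj p • c ≤ EE V F)
    (hsp : ∀ v ∈ V, ∃ x ∈ MulAut.conj p • c, ∃ e ∈ EE V F, v = x * e) {v : G} (hv : v ∈ V) :
    ∃ x ∈ h.U, x⁻¹ * v ∈ F := by
  obtain ⟨w, hw, hwE⟩ := SetLike.not_le_iff_exists.1 hbad
  have hwU : w ∈ h.U := h.conj_le_U hp hw
  obtain ⟨x, hx, e, he, rfl⟩ := hsp v hv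
  obtain ⟨s, hs, hse⟩ := h.toHyp.surj (h.U_le_V hwU) hwE he
  refine ⟨x * cm w s, mul_mem (h.conj_le_U hp hx) ?_, ?_⟩
  · exact NOThreeL.Low.Key.c_mem_left hwU (h.P_norm_U (h.SP (h.WS hs)))
  · have e1 : (x * cm w s)⁻¹ * (x * e) = (cm w s)⁻¹ * e := by group
    rw [e1]
    exact h.toHyp.inv_mul_mem (h.toHyp.c_memV (h.U_le_V hwU) hs) he.1 hse

/-- **(c)** `W^k ≤ C(L)` ⟹ `U₀ ≤ I^k` -/
theorem U_le_conj {k : G} (hk : k ∈ P') (hQ : MulAut.conj k • WW V F ≤ centralizer (L : Set G)) :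
    h.U ≤ MulAut.conj k • (V ⊓ B) := by
  refine h.U_le fun x hx => ?_
  have h1 : MulAut.conj k • WW V F ≤ MulAut.conj x • S := by
    have h2 : MulAut.conj k • WW V F ≤ S ⊓ centralizer (L : Set G) := le_inf (h.WS' k hk) hQ
    rw [← conj_eq_of_norm' (h.PQ hx)] at h2
    exact h2.trans (conj_le_iff.2 inf_le_left)
  have h2 : WW V F ≤ MulAut.conj (k⁻¹ * x) • S := by
    have h3 := (conj_le_iff (g := k⁻¹)).2 h1
    rwa [conj_conj, conj_conj, inv_mul_cancel, map_one, one_smul] at h3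
  have h3 : MulAut.conj (k⁻¹ * x) • c ≤ B :=
    h.line _ (mul_mem ((le_sup_right : P' ≤ P ⊔ P') (inv_mem hk)) ((le_sup_left : P ≤ P ⊔ P') hx)) h2
  have h4 : MulAut.conj x • c ≤ MulAut.conj k • B := by
    have h5 := (conj_le_iff (g := k)).2 h3
    rwa [conj_conj, mul_inv_cancel_left] at h5
  have h5 : MulAut.conj x • c ≤ MulAut.conj k • V := by
    rw [conj_eq_of_norm' (h.PV' hk)]
    exact (h.conj_le_U hx).trans h.U_le_V
  rw [Subgroup.smul_inf]
  exact le_inf h5 h4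

/-- **(d)** the count -/
theorem count {p : G} (hp : p ∈ P) (hbad : ¬ MulAut.conj p • c ≤ EE V F)
    (hsp : ∀ v ∈ V, ∃ x ∈ MulAut.conj p • c, ∃ e ∈ EE V F, v = x * e) {a g : G} (ha : p * a * p⁻¹ ∈ B)
    (haP : a ∈ P') (hg : g ∈ P') (hQ : MulAut.conj (g⁻¹ * a⁻¹ * g) • WW V F ≤ centralizer (L : Set G)) :
    a ∈ centralizer (c : Set G) := by
  set A : Subgroup G := MulAut.conj g • h.U with hA
  set J : Subgroup G := MulAut.conj g • (V ⊓ B) with hJ
  have hk : g⁻¹ * a⁻¹ * g ∈ P' := mul_mem (mul_mem (inv_mem hg) (inv_mem haP)) hg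
  have hAV : A ≤ V := by
    have h1 := (conj_le_iff (g := g)).2 h.U_le_V
    rwa [conj_eq_of_norm' (h.PV' hg)] at h1
  have hC : A ⊓ centralizer ({a} : Set G) ≤ A ⊓ J := by
    rintro x ⟨hxA, hxa⟩
    refine ⟨hxA, ?_⟩
    have h1 : g⁻¹ * x * g ∈ h.U := mem_conj.1 hxA
    have h2 := h.U_le_conj hk hQ h1
    rw [mem_conj] at h2
    change x ∈ J
    rw [hJ, mem_conj]
    have h3 : a * x = x * a := mem_centralizer_iff.1 hxa a rfl
    have e : (g⁻¹ * a⁻¹ * g)⁻¹ * (g⁻¹ * x * g) * (g⁻¹ * a⁻¹ * g) = g⁻¹ * (a * x * a⁻¹) * g := by group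
    rw [e, h3, mul_inv_cancel_right] at h2
    exact h2
  -- `|V : I^g| ≤ |A : A ∩ I^g|`
  have h1 : J.relIndex V ≤ J.relIndex A := by
    refine relIndex_le_of_span fun v hv => ?_
    have hv' : g⁻¹ * v * g ∈ V := by
      rw [← mem_conj, conj_eq_of_norm' (h.PV' hg)]
      exact hv
    obtain ⟨x, hx, hxF⟩ := h.span hp hbad hsp hv'
    refine ⟨g * x * g⁻¹, ?_, ?_, ?_⟩
    · rw [hA, mem_conj]
      have e : g⁻¹ * (g * x * g⁻¹) * g = x := by group
      rwa [e]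
    · exact hAV (by rw [hA, mem_conj]; have e : g⁻¹ * (g * x * g⁻¹) * g = x := by group
                    rwa [e])
    · rw [hJ, mem_conj]
      have e : g⁻¹ * ((g * x * g⁻¹)⁻¹ * v) * g = x⁻¹ * (g⁻¹ * v * g) := by group
      rw [e]
      exact h.toBH.F_le_I hxF
  -- `|V : C_V(a)| ≤ |V : I|`
  have h2 : (centralizer ({a} : Set G)).relIndex V ≤ J.relIndex V := by
    have h3 : MulAut.conj p⁻¹ • (V ⊓ B) ≤ centralizer ({a} : Set G) := by
      intro x hx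
      rw [mem_conj, inv_inv] at hx
      rw [mem_centralizer_iff]
      rintro y rfl
      have h4 := h.toBH.B_comm ha hx.2
      have h5 : p * (y * x) * p⁻¹ = p * (x * y) * p⁻¹ := by
        calc p * (y * x) * p⁻¹ = p * y * p⁻¹ * (p * x * p⁻¹) := by group
          _ = p * x * p⁻¹ * (p * y * p⁻¹) := h4
          _ = p * (x * y) * p⁻¹ := by group
      exact mul_left_cancel (mul_right_cancel h5)
    have h4 : J.relIndex V = (MulAut.conj p⁻¹ • (V ⊓ B)).relIndex V := by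
      have e1 := relIndex_conj g (V ⊓ B) V
      have e2 := relIndex_conj p⁻¹ (V ⊓ B) V
      rw [conj_eq_of_norm' (h.PV' hg)] at e1
      rw [conj_eq_of_norm' (h.PV (inv_mem hp))] at e2
      rw [hJ, e1, e2]
    rw [h4]
    exact relIndex_le_of_le_left h3 (rne _ _)
  have h3 : (centralizer ({a} : Set G)).relIndex A ≤ (centralizer ({a} : Set G)).relIndex V :=
    relIndex_le_of_le_right hAV (rne _ _)
  have h4 : (A ⊓ centralizer ({a} : Set G)).relIndex (A ⊓ J) * (A ⊓ J).relIndex A =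
      (A ⊓ centralizer ({a} : Set G)).relIndex A := relIndex_mul_relIndex _ _ _ hC inf_le_left
  rw [inf_relIndex_left, inf_relIndex_left] at h4
  have h5 := Nat.pos_of_ne_zero (rne J V)
  have h6 : (A ⊓ centralizer ({a} : Set G)).relIndex (A ⊓ J) ≤ 1 := by
    by_contra hcon
    push Not at hcon
    have h7 := Nat.mul_le_mul hcon h1
    omega
  have h7 : A ⊓ J ≤ A ⊓ centralizer ({a} : Set G) := by
    have h8 := rne (A ⊓ centralizer ({a} : Set G)) (A ⊓ J)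
    exact relIndex_eq_one.1 (by omega)
  -- `c ≤ A ∩ I^g`
  rw [mem_centralizer_iff]
  intro x hx
  have hxg : g⁻¹ * x * g ∈ c := by
    rw [← mem_conj, conj_eq_of_norm' (h.Pc hg)]
    exact hx
  have h8 : x ∈ A ⊓ J := by
    refine ⟨?_, ?_⟩
    · change x ∈ A
      rw [hA, mem_conj]
      exact h.c_le_U hxg
    · change x ∈ J
      rw [hJ, mem_conj]
      exact h.toBH.F_le_I (h.cF hxg)
  exact (mem_centralizer_iff.1 (h7 h8).2 a rfl).symm

/-- **(e)** `P'` normalises `R₀ = ⟨ρ^S⟩`. `dich`: `W^k` centralises `L` or has its centre in `ρ^S`. -/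
theorem norm_R0 {rho R₀ : Subgroup G}
    (dich : ∀ k ∈ P', MulAut.conj k • WW V F ≤ centralizer (L : Set G) ∨
      ∃ s ∈ S, MulAut.conj k • rho = MulAut.conj s • rho)
    (hR₀ : R₀ = ⨆ s : S, MulAut.conj (s : G) • rho)
    (min : ∀ N : Subgroup G, N ≤ P' → P' ≤ normalizer (N : Set G) →
      (∃ a ∈ N, a ∈ S ∧ a ∉ centralizer (c : Set G)) → P' ≤ N ⊔ S)
    {p : G} (hp : p ∈ P) (hbad : ¬ MulAut.conj p • c ≤ EE V F)
    (hsp : ∀ v ∈ V, ∃ x ∈ MulAut.conj p • c, ∃ e ∈ EE V F, v = x * e) : P' ≤ normalizer (R₀ : Set G) := by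
  obtain ⟨b, hb, hbc⟩ := h.exists_mov hp hbad
  -- `a = b^(p⁻¹)`
  have haQ : p⁻¹ * b * p ∈ S ⊓ centralizer (L : Set G) := by
    have h1 := h.conjB_le_Q (inv_mem hp)
    refine h1 ?_
    rw [mem_conj]
    have e : (p⁻¹)⁻¹ * (p⁻¹ * b * p) * p⁻¹ = b := by group
    rwa [e]
  set a := p⁻¹ * b * p with ha
  have haB : p * a * p⁻¹ ∈ B := by
    have e : p * a * p⁻¹ = b := by rw [ha]; group
    rwa [e]
  have hac : a ∉ centralizer (c : Set G) := by
    intro h1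
    apply hbc
    rw [mem_centralizer_iff] at h1 ⊢
    intro x hx
    have h2 := h1 _ (mem_conj.1 hx)
    have h3 : p * (p⁻¹ * x * p * a) * p⁻¹ = p * (a * (p⁻¹ * x * p)) * p⁻¹ := by rw [h2]
    have e1 : p * (p⁻¹ * x * p * a) * p⁻¹ = x * b := by rw [ha]; group
    have e2 : p * (a * (p⁻¹ * x * p)) * p⁻¹ = b * x := by rw [ha]; group
    rw [e1, e2] at h3
    exact h3
  have haP : a ∈ P' := h.SP' haQ.1
  -- the conjugates of `a`
  set Γ : Set G := {k | ∃ g ∈ P', k = g⁻¹ * a⁻¹ * g} with hΓ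
  have hΓP : ∀ k ∈ Γ, k ∈ P' := by
    rintro k ⟨g, hg, rfl⟩
    exact mul_mem (mul_mem (inv_mem hg) (inv_mem haP)) hg
  have hΓr : ∀ k ∈ Γ, ∃ s ∈ S, MulAut.conj k • rho = MulAut.conj s • rho := by
    intro k hk
    have hkP := hΓP k hk
    obtain ⟨g, hg, rfl⟩ := hk
    rcases dich _ hkP with h1 | h1
    · exact absurd (h.count hp hbad hsp haB haP hg h1) hac
    · exact h1
  have hΓc : ∀ k ∈ Γ, ∀ s ∈ P', s⁻¹ * k * s ∈ Γ := by
    rintro k ⟨g, hg, rfl⟩ s hs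
    exact ⟨g * s, mul_mem hg hs, by group⟩
  -- each `k ∈ Γ` normalises `R₀`
  have key : ∀ k ∈ Γ, MulAut.conj k • R₀ ≤ R₀ := by
    intro k hk
    rw [hR₀]
    refine conj_iSup_le fun s => ?_
    rw [conj_conj]
    obtain ⟨t, ht, h1⟩ := hΓr _ (hΓc k hk s (h.SP' s.2))
    have e : k * (s : G) = s * ((s : G)⁻¹ * k * s) := by group
    rw [e, ← conj_conj, h1, conj_conj]
    exact le_iSup (fun s : S => MulAut.conj (s : G) • rho) ⟨(s : G) * t, mul_mem s.2 ht⟩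
  have keyS : ∀ s ∈ S, MulAut.conj s • R₀ ≤ R₀ := by
    intro s hs
    rw [hR₀]
    refine conj_iSup_le fun t => ?_
    rw [conj_conj]
    exact le_iSup (fun s : S => MulAut.conj (s : G) • rho) ⟨s * (t : G), mul_mem hs t.2⟩
  have hn : ∀ k : G, MulAut.conj k • R₀ ≤ R₀ → k ∈ normalizer (R₀ : Set G) := by
    intro k hk
    have h1 : MulAut.conj k • R₀ = R₀ := by
      refine Subgroup.eq_of_le_of_card_ge hk ?_
      rw [NOne.Choice.card_conj]
    rw [mem_normalizer_iff]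
    intro x
    constructor
    · intro hx
      rw [← h1, mem_conj]
      have e : k⁻¹ * (k * x * k⁻¹) * k = x := by group
      rwa [e]
    · intro hx
      rw [← h1, mem_conj] at hx
      have e : k⁻¹ * (k * x * k⁻¹) * k = x := by group
      rwa [e] at hx
  -- `P' = ⟨Γ⟩ S`
  have h1 : P' ≤ closure Γ ⊔ S := by
    refine min _ ((closure_le _).2 hΓP) ?_ ⟨a⁻¹, subset_closure ⟨1, one_mem _, by group⟩, inv_mem haQ.1, fun h2 => hac ?_⟩
    · intro s hs
      have h2 : ∀ t ∈ P', ∀ x ∈ closure Γ, t * x * t⁻¹ ∈ closure Γ := by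
        intro t ht x hx
        induction hx using closure_induction with
        | mem x hx =>
          have h3 := hΓc x hx t⁻¹ (inv_mem ht)
          rw [inv_inv] at h3
          exact subset_closure h3
        | one => rw [mul_one, mul_inv_cancel]; exact one_mem _
        | mul x y _ _ hx hy =>
          have e : t * (x * y) * t⁻¹ = t * x * t⁻¹ * (t * y * t⁻¹) := by group
          rw [e]
          exact mul_mem hx hy
        | inv x _ hx =>
          have e : t * x⁻¹ * t⁻¹ = (t * x * t⁻¹)⁻¹ := by group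
          rw [e]
          exact inv_mem hx
      rw [mem_normalizer_iff]
      intro x
      refine ⟨h2 s hs x, fun hx => ?_⟩
      have h3 := h2 s⁻¹ (inv_mem hs) _ hx
      have e : s⁻¹ * (s * x * s⁻¹) * s⁻¹⁻¹ = x := by group
      rwa [e] at h3
    · have := inv_mem h2
      rwa [inv_inv] at this
  refine h1.trans (sup_le ((closure_le _).2 fun k hk => hn k (key k hk)) fun s hs => hn s (keyS s hs))

/-- **THEOREM PAS**: every `c^p`, `p ∈ P`, is good. -/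
theorem pas {rho R₀ Z : Subgroup G}
    (dich : ∀ k ∈ P', MulAut.conj k • WW V F ≤ centralizer (L : Set G) ∨
      ∃ s ∈ S, MulAut.conj k • rho = MulAut.conj s • rho)
    (hR₀ : R₀ = ⨆ s : S, MulAut.conj (s : G) • rho) (hrL : rho ≤ L)
    (min : ∀ N : Subgroup G, N ≤ P' → P' ≤ normalizer (N : Set G) →
      (∃ a ∈ N, a ∈ S ∧ a ∉ centralizer (c : Set G)) → P' ≤ N ⊔ S)
    (hZ : Z ≤ R₀) (hc : ∀ X : Subgroup G, P' ≤ normalizer (X : Set G) → Z ≤ X → c ≤ X)
    {p : G} (hp : p ∈ P)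
    (hsp : ¬ MulAut.conj p • c ≤ EE V F → ∀ v ∈ V, ∃ x ∈ MulAut.conj p • c, ∃ e ∈ EE V F, v = x * e) :
    MulAut.conj p • c ≤ EE V F := by
  by_contra hbad
  have h1 : c ≤ L := by
    refine (hc _ (h.norm_R0 dich hR₀ min hp hbad (hsp hbad)) hZ).trans ?_
    rw [hR₀]
    refine iSup_le fun s => ?_
    have h2 := (conj_le_iff (g := (s : G))).2 hrL
    rwa [conj_eq_of_norm' (h.PL (h.SP s.2))] at h2
  apply hbad
  have h2 := (conj_le_iff (g := p)).2 h1
  rw [conj_eq_of_norm' (h.PL hp)] at h2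
  exact h2.trans h.L_le_E

end Pre

end Cfsg.Agent.Omega.NO3S.Pas

end

section


/-!
# GammaFF: the passive types lie in `R₀` (THEOREM PAS, the end of #20445 (P1))

* `Pre.c_le_L` : if all `c^p`, `p ∈ P`, are in `B`, then `c ≤ L`;
* `Pre.cent_conjW` : `W^s` centralises `c` for `s ∈ S`;
* `Pre.c_le_R0` : so `c ≤ C_L(⟨W^S⟩)`.
-/

set_option autoImplicit false
set_option linter.unusedSectionVars false

namespace Cfsg.Agent.Omega.NO3S.Pas

open Subgroup Cfsg Cfsg.Agent.Omega.NoFF.Basic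
open Cfsg.Agent.Omega.NOne.Flat (Hyp EE WW NN BadX)
open Cfsg.Agent.Omega.NOThreeL.Low.Key (BH conj_eq_of_norm' norm_conj_mem c_eq_one')
open Cfsg.Agent.ZN (o2)
open scoped Pointwise

universe u

local notation "cm" => Cfsg.Agent.Omega.NOne.NearFF.c

variable {G : Type u} [Group G] [Finite G]

theorem mem_sup_of_norm {G : Type u} [Group G] {A B : Subgroup G}
    (h : B ≤ normalizer (A : Set G)) {x : G} (hx : x ∈ A ⊔ B) : ∃ a ∈ A, ∃ b ∈ B, a * b = x := by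
  have h1 := coe_mul_of_right_le_normalizer_left A B h
  have h2 : x ∈ ((A ⊔ B : Subgroup G) : Set G) := hx
  rw [h1] at h2
  obtain ⟨a, ha, b, hb, e⟩ := h2
  exact ⟨a, ha, b, hb, e⟩

namespace Pre

variable {S V F B P P' L c : Subgroup G} (h : Pre S V F B P P' L c)
include h

/-- `W^s` centralises `c`, `s ∈ S` -/
theorem cent_conjW {s : G} (hs : s ∈ S) : MulAut.conj s • WW V F ≤ centralizer (c : Set G) := by
  intro w hw
  rw [mem_centralizer_iff]
  intro x hx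
  have h1 : s⁻¹ * x * s ∈ c := by
    rw [← mem_conj, conj_eq_of_norm' (h.Pc (h.SP' hs))]
    exact hx
  have h2 := Hyp.F_comm (h.cF h1) (Hyp.W_le_X (mem_conj.1 hw))
  have h3 : s * (s⁻¹ * x * s * (s⁻¹ * w * s)) * s⁻¹ = s * (s⁻¹ * w * s * (s⁻¹ * x * s)) * s⁻¹ := by rw [h2]
  have e1 : s * (s⁻¹ * x * s * (s⁻¹ * w * s)) * s⁻¹ = x * w := by group
  have e2 : s * (s⁻¹ * w * s * (s⁻¹ * x * s)) * s⁻¹ = w * x := by group
  rw [e1, e2] at h3
  exact h3

/-- the elements of `P` which centralise `U₀ L / L` -/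
def KK (h : Pre S V F B P P' L c) : Subgroup G where
  carrier := {n | n ∈ P ∧ ∀ u ∈ h.U, n * u * n⁻¹ * u⁻¹ ∈ L}
  mul_mem' := by
    rintro a b ⟨ha, ha'⟩ ⟨hb, hb'⟩
    refine ⟨mul_mem ha hb, fun u hu => ?_⟩
    have h1 := norm_conj_mem (h.PL ha) (hb' u hu)
    have e : a * b * u * (a * b)⁻¹ * u⁻¹ = a * (b * u * b⁻¹ * u⁻¹) * a⁻¹ * (a * u * a⁻¹ * u⁻¹) := by group
    rw [e]
    exact mul_mem h1 (ha' u hu)
  one_mem' := ⟨one_mem _, fun u _ => by
    rw [one_mul, inv_one, mul_one, mul_inv_cancel]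
    exact one_mem _⟩
  inv_mem' := by
    rintro a ⟨ha, ha'⟩
    refine ⟨inv_mem ha, fun u hu => ?_⟩
    have hu' : a⁻¹ * u * a⁻¹⁻¹ ∈ h.U := norm_conj_mem (h.P_norm_U (inv_mem ha)) hu
    have h1 := inv_mem (ha' _ hu')
    have e : (a * (a⁻¹ * u * a⁻¹⁻¹) * a⁻¹ * (a⁻¹ * u * a⁻¹⁻¹)⁻¹)⁻¹ = a⁻¹ * u * a⁻¹⁻¹ * u⁻¹ := by group
    rwa [e] at h1

theorem KK_le : h.KK ≤ P := fun _ hn => hn.1

theorem P_norm_KK : P ≤ normalizer (h.KK : Set G) := by
  have key : ∀ t ∈ P, ∀ n ∈ h.KK, t * n * t⁻¹ ∈ h.KK := by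
    rintro t ht n ⟨hn, hn'⟩
    refine ⟨mul_mem (mul_mem ht hn) (inv_mem ht), fun u hu => ?_⟩
    have hu' : t⁻¹ * u * t⁻¹⁻¹ ∈ h.U := norm_conj_mem (h.P_norm_U (inv_mem ht)) hu
    have h1 := norm_conj_mem (h.PL ht) (hn' _ hu')
    have e : t * (n * (t⁻¹ * u * t⁻¹⁻¹) * n⁻¹ * (t⁻¹ * u * t⁻¹⁻¹)⁻¹) * t⁻¹ =
        t * n * t⁻¹ * u * (t * n * t⁻¹)⁻¹ * u⁻¹ := by group
    rwa [e] at h1
  intro t ht
  rw [mem_normalizer_iff]
  intro n
  refine ⟨key t ht n, fun hn => ?_⟩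
  have h1 := key _ (inv_mem ht) _ hn
  have e : t⁻¹ * (t * n * t⁻¹) * t⁻¹⁻¹ = n := by group
  rwa [e] at h1

/-- if all `c^p` are in `B`: `[U₀, W] ≤ ρ ≤ L` -/
theorem W_le_KK (good : ∀ p ∈ P, MulAut.conj p • c ≤ B)
    (key : ∀ r ∈ V ⊓ B, ∀ s ∈ WW V F, cm r s ∈ L) : WW V F ≤ h.KK := by
  intro s hs
  refine ⟨h.SP (h.WS hs), fun u hu => ?_⟩
  have h1 : u ∈ V ⊓ B := ⟨h.U_le_V hu, h.U_le good hu⟩
  have h2 := inv_mem (key u h1 s hs)
  have e : (cm u s)⁻¹ = s * u * s⁻¹ * u⁻¹ := by rw [NOne.NearFF.c]; group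
  rwa [e] at h2

/-- `U₀ ≤ c L` -/
theorem U_le_sup (good : ∀ p ∈ P, MulAut.conj p • c ≤ B)
    (key : ∀ r ∈ V ⊓ B, ∀ s ∈ WW V F, cm r s ∈ L)
    (gen : ∀ N : Subgroup G, N ≤ P → P ≤ normalizer (N : Set G) → WW V F ≤ N → P ≤ N ⊔ S) : h.U ≤ c ⊔ L := by
  refine h.U_le fun p hp => ?_
  have h2 := gen _ h.KK_le h.P_norm_KK (h.W_le_KK good key) hp
  obtain ⟨n, hn, s, hs, rfl⟩ := mem_sup_of_norm (h.SP.trans h.P_norm_KK) h2
  rw [← conj_conj, conj_eq_of_norm' (h.Pc (h.SP' hs))]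
  intro y hy
  rw [mem_conj] at hy
  have h5 := hn.2 _ (h.c_le_U hy)
  have e : n * (n⁻¹ * y * n) * n⁻¹ * (n⁻¹ * y * n)⁻¹ = y * (n⁻¹ * y * n)⁻¹ := by group
  rw [e] at h5
  have e2 : y = y * (n⁻¹ * y * n)⁻¹ * (n⁻¹ * y * n) := by group
  rw [e2]
  exact mul_mem ((le_sup_right : L ≤ c ⊔ L) h5) ((le_sup_left : c ≤ c ⊔ L) hy)

/-- **`c ≤ L`** if all `c^p`, `p ∈ P`, are in `B`. -/
theorem c_le_L (good : ∀ p ∈ P, MulAut.conj p • c ≤ B)
    (key : ∀ r ∈ V ⊓ B, ∀ s ∈ WW V F, cm r s ∈ L)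
    (gen : ∀ N : Subgroup G, N ≤ P → P ≤ normalizer (N : Set G) → WW V F ≤ N → P ≤ N ⊔ S)
    (cvq : V ⊓ centralizer ((S ⊓ centralizer (L : Set G) : Subgroup G) : Set G) ≤ L)
    (irr : ∀ X : Subgroup G, X ≤ V → P ≤ normalizer (X : Set G) → X ≠ ⊥ → L ≤ X) : c ≤ L := by
  set Q : Subgroup G := S ⊓ centralizer (L : Set G) with hQ
  have hU := h.U_le_sup good key gen
  have hcn : c ≤ normalizer (L : Set G) := by
    intro x hx
    rw [mem_normalizer_iff]
    intro y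
    have h1 : ∀ z ∈ L, x * z * x⁻¹ = z := fun z hz => by
      rw [h.toHyp.V_comm (h.cV hx) (h.LV hz), mul_inv_cancel_right]
    constructor
    · intro hy
      rwa [h1 y hy]
    · intro hy
      have h2 : x⁻¹ * (x * y * x⁻¹) * x⁻¹⁻¹ = x * y * x⁻¹ := by
        rw [h.toHyp.V_comm (inv_mem (h.cV hx)) (h.LV hy), mul_inv_cancel_right]
      have e : x⁻¹ * (x * y * x⁻¹) * x⁻¹⁻¹ = y := by group
      rw [e] at h2
      rwa [h2]
  -- `X = [U₀, Q]`
  set X : Subgroup G := closure {y | ∃ u ∈ h.U, ∃ q ∈ Q, y = cm u q} with hX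
  have hXc : X ≤ c := by
    rw [hX, closure_le]
    rintro y ⟨u, hu, q, hq, rfl⟩
    have h1 := hU hu
    rw [sup_comm] at h1
    obtain ⟨l, hl, x, hx, rfl⟩ := mem_sup_of_norm hcn h1
    have e1 : cm (l * x) q = l * (x * (q * x⁻¹ * q⁻¹)) * (q * l⁻¹ * q⁻¹) := by rw [NOne.NearFF.c]; group
    have e2 : q * l⁻¹ * q⁻¹ = l⁻¹ := by
      have := mem_centralizer_iff.1 hq.2 l⁻¹ (inv_mem hl)
      rw [← this, mul_inv_cancel_right]
    have h2 : q * x⁻¹ * q⁻¹ ∈ c := norm_conj_mem (h.Pc (h.SP' hq.1)) (inv_mem hx)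
    have h3 : x * (q * x⁻¹ * q⁻¹) ∈ c := mul_mem hx h2
    have e3 : l * (x * (q * x⁻¹ * q⁻¹)) * l⁻¹ = x * (q * x⁻¹ * q⁻¹) := by
      rw [h.toHyp.V_comm (h.LV hl) (h.cV h3), mul_inv_cancel_right]
    rw [SetLike.mem_coe, e1, e2, e3]
    exact h3
  have hPX : P ≤ normalizer (X : Set G) := by
    have key : ∀ t ∈ P, ∀ x ∈ X, t * x * t⁻¹ ∈ X := by
      intro t ht x hx
      induction hx using closure_induction with
      | mem x hx =>
        obtain ⟨u, hu, q, hq, rfl⟩ := hx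
        refine subset_closure ⟨t * u * t⁻¹, norm_conj_mem (h.P_norm_U ht) hu, t * q * t⁻¹,
          norm_conj_mem (h.PQ ht) hq, ?_⟩
        rw [NOne.NearFF.c, NOne.NearFF.c]
        group
      | one => rw [mul_one, mul_inv_cancel]; exact one_mem _
      | mul x y _ _ hx hy =>
        have e : t * (x * y) * t⁻¹ = t * x * t⁻¹ * (t * y * t⁻¹) := by group
        rw [e]
        exact mul_mem hx hy
      | inv x _ hx =>
        have e : t * x⁻¹ * t⁻¹ = (t * x * t⁻¹)⁻¹ := by group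
        rw [e]
        exact inv_mem hx
    intro t ht
    rw [mem_normalizer_iff]
    intro x
    refine ⟨key t ht x, fun hx => ?_⟩
    have h1 := key _ (inv_mem ht) _ hx
    have e : t⁻¹ * (t * x * t⁻¹) * t⁻¹⁻¹ = x := by group
    rwa [e] at h1
  have hX1 : X = ⊥ := by
    by_contra hne
    have h1 := (irr X (hXc.trans h.cV) hPX hne).trans hXc
    apply h.mov
    intro w hw
    rw [mem_centralizer_iff]
    intro l hl
    exact Hyp.F_comm (h.cF (h1 hl)) (Hyp.W_le_X hw)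
  refine le_trans (le_inf h.cV fun x hx => ?_) cvq
  rw [mem_centralizer_iff]
  intro q hq
  have h1 : cm x q ∈ X := subset_closure ⟨x, h.c_le_U hx, q, hq, rfl⟩
  rw [hX1, mem_bot] at h1
  exact (NOThreeL.Low.Key.comm_of_c h1).symm

end Pre

end Cfsg.Agent.Omega.NO3S.Pas

end

section


/-!
# GammaFF, THEOREM W (#21003, helper424), part (A): a passive type `P'` normalises `R₀`

`Pre S V F B P P' L c` (PasCore) with the blocks `N i ≥ R i` of the active line `L`, permuted by `S`;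
`W` acts on `L` in the block `N i₀`, with centre `ρ = R i₀`; every `W^k`, `k ∈ P'`, centralises `L` or acts in the
block `N i` with `R i = ρ^k`.  `R₀ = ⟨ρ^S⟩`, `R* = ⟨ρ^{P'}⟩`, `p ∈ P` generic: `ρ_p = ρ^(p⁻¹) ≤ N i₀`,
`ρ_p ∩ R₀ = 1`, `P = ⟨S, W_p⟩`, `B_p ≤ S^g` for `g ∈ P'`.

* `Sit.cent_R₀` : `W^k ≤ C(R₀)` for `k ∈ P'`; `Sit.Rs_le_conjF` : `R* ≤ F^s`; `Sit.Rs_inf_L` : `R* ∩ L ≤ R₀`;
* `Sit.a1` **(A1)** : `R* ≤ E_p`;
* `Sit.a2` **(A2)** : `R* ≤ L`; `Sit.Rs_eq` : `R* = R₀`; `Sit.norm_R₀` : `P' ≤ N(R₀)`;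
* `Sit.c_le` : `c ≤ R₀`; `Sit.norm_B₀` : `P'` normalises `B₀ = C_S(R₀)`; `Sit.conjB_le_B₀`, `Sit.conjW_le_B₀`,
  `Sit.Q_le_B₀`.

No case distinction natural / `S_n`, `q = 2` / `q > 2`: if `b ∈ B_p` moves the block `N_ω` to `N_ω'`, then
`v ↦ [v, b]` is injective on `N_ω`, `|N_ω| = q² ≥ |D_p|`, so `D_p = {[v, b] : v ∈ N_ω} ≥ ρ_p`.
-/

set_option autoImplicit false
set_option linter.unusedSectionVars false

namespace Cfsg.Agent.Omega.NO3S.ThmWA

open Subgroup Cfsg Cfsg.Agent.Omega.NoFF.Basic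
open Cfsg.Agent.Omega.NOne.Flat (Hyp EE WW NN BadX)
open Cfsg.Agent.Omega.NOThreeL.Low.Key (BH conj_eq_of_norm' norm_conj_mem c_eq_one' comm_of_c)
open Cfsg.Agent.Omega.NO3S.Pas (Pre mem_sup_of_norm conj_iSup_le)
open scoped Pointwise

universe u v

local notation "cm" => Cfsg.Agent.Omega.NOne.NearFF.c

variable {G : Type u} [Group G] [Finite G]

/-- `R₀ = ⟨ρ^S⟩`, `R* = ⟨ρ^{P'}⟩` -/
abbrev spanC (ρ S : Subgroup G) : Subgroup G := ⨆ s : S, MulAut.conj (s : G) • ρ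

theorem conj_le_spanC {ρ S : Subgroup G} {s : G} (hs : s ∈ S) : MulAut.conj s • ρ ≤ spanC ρ S :=
  le_iSup (fun s : S => MulAut.conj (s : G) • ρ) ⟨s, hs⟩

theorem le_spanC {ρ S : Subgroup G} : ρ ≤ spanC ρ S := by
  have := conj_le_spanC (ρ := ρ) (one_mem S)
  rwa [map_one, one_smul] at this

theorem spanC_mono {ρ S T : Subgroup G} (h : S ≤ T) : spanC ρ S ≤ spanC ρ T :=
  iSup_le fun s => conj_le_spanC (h s.2)

theorem norm_of_conj_le {A P : Subgroup G} (h : ∀ p ∈ P, MulAut.conj p • A ≤ A) : P ≤ normalizer (A : Set G) := by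
  intro p hp
  rw [mem_normalizer_iff]
  intro x
  constructor
  · intro hx
    refine h p hp ?_
    rw [mem_conj]
    have e : p⁻¹ * (p * x * p⁻¹) * p = x := by group
    rwa [e]
  · intro hx
    refine h _ (inv_mem hp) ?_
    rw [mem_conj, inv_inv]
    exact hx

theorem norm_spanC (ρ S : Subgroup G) : S ≤ normalizer (spanC ρ S : Set G) :=
  norm_of_conj_le fun p hp => conj_iSup_le fun s => by
    rw [conj_conj]
    exact conj_le_spanC (mul_mem hp s.2)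

theorem spanC_le {ρ S A : Subgroup G} (h : S ≤ normalizer (A : Set G)) (hA : ρ ≤ A) : spanC ρ S ≤ A :=
  iSup_le fun s => by
    have h1 := (conj_le_iff (g := (s : G))).2 hA
    rwa [conj_eq_of_norm' (h s.2)] at h1

theorem conj_cent {g : G} {A X : Subgroup G} (h : MulAut.conj g • A ≤ centralizer (X : Set G)) :
    A ≤ centralizer ((MulAut.conj g⁻¹ • X : Subgroup G) : Set G) := by
  have h1 := conj_le_centralizer (g := g⁻¹) h
  rwa [conj_conj, inv_mul_cancel, map_one, one_smul] at h1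

theorem conj_cent' {g : G} {A X : Subgroup G} (h : A ≤ centralizer ((MulAut.conj g⁻¹ • X : Subgroup G) : Set G)) :
    MulAut.conj g • A ≤ centralizer (X : Set G) := by
  have h1 := conj_le_centralizer (g := g) h
  rwa [conj_conj, mul_inv_cancel, map_one, one_smul] at h1

theorem moves_conj {A : Subgroup G} {d : G} (k : G) (h : ∃ a ∈ A, a * d ≠ d * a) :
    ∃ a ∈ MulAut.conj k • A, a * (k * d * k⁻¹) ≠ k * d * k⁻¹ * a := by
  obtain ⟨a, ha, hne⟩ := h
  refine ⟨k * a * k⁻¹, ?_, fun h1 => hne ?_⟩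
  · rw [mem_conj]
    have e : k⁻¹ * (k * a * k⁻¹) * k = a := by group
    rwa [e]
  · have h2 : k * (a * d) * k⁻¹ = k * (d * a) * k⁻¹ := by
      calc k * (a * d) * k⁻¹ = k * a * k⁻¹ * (k * d * k⁻¹) := by group
        _ = k * d * k⁻¹ * (k * a * k⁻¹) := h1
        _ = k * (d * a) * k⁻¹ := by group
    exact mul_left_cancel (mul_right_cancel h2)

/-- The situation of (A). -/
structure Sit (S V F B P P' L c : Subgroup G) (ρ D : Subgroup G) {ι : Type v} (R N : ι → Subgroup G) (i₀ : ι)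
    (q : ℕ) : Prop extends Pre S V F B P P' L c where
  /- the blocks of `L` -/
  RN : ∀ i, R i ≤ N i
  NL : ∀ i, N i ≤ L
  ind : ∀ i j, i ≠ j → N i ⊓ N j = ⊥
  perm : ∀ s ∈ S, ∀ i, ∃ j, MulAut.conj s • N i = N j ∧ MulAut.conj s • R i = R j
  root : R i₀ = ρ
  cardR : Nat.card ρ ≤ q
  cardN : q ^ 2 ≤ Nat.card (N i₀)
  /- `W` acts in the block `N i₀`, with centre `ρ` -/
  rF : ρ ≤ F
  cN : ∀ j, j ≠ i₀ → WW V F ≤ centralizer (N j : Set G)
  cNi : N i₀ ⊓ centralizer (WW V F : Set G) ≤ ρ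
  dich : ∀ k ∈ P', MulAut.conj k • WW V F ≤ centralizer (L : Set G) ∨
    ∃ i, MulAut.conj k • ρ = R i ∧ ∀ j, j ≠ i → MulAut.conj k • WW V F ≤ centralizer (N j : Set G)
  fix : L ⊓ centralizer ((spanC (WW V F) S : Subgroup G) : Set G) ≤ spanC ρ S
  /- `B` on `V` -/
  cIW : ∀ r ∈ V ⊓ B, ∀ s ∈ WW V F, cm r s ∈ ρ
  cEB : ∀ e ∈ EE V F, ∀ b ∈ B, cm e b ∈ ρ
  wB : ∀ w ∈ V, w ∉ EE V F → q ≤ {y : G | ∃ b ∈ B, cm w b = y}.ncard
  centB : V ⊓ centralizer (B : Set G) ≤ B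
  memD : ∀ w ∈ V, ∀ b ∈ B, cm w b ∈ D
  rD : ρ ≤ D
  cardD : Nat.card D ≤ q ^ 2

namespace Sit

variable {S V F B P P' L c ρ D : Subgroup G} {ι : Type v} {R N : ι → Subgroup G} {i₀ : ι} {q : ℕ}
  (h : Sit S V F B P P' L c ρ D R N i₀ q)
include h

theorem r_le_L : ρ ≤ L := by
  rw [← h.root]
  exact (h.RN i₀).trans (h.NL i₀)

theorem R₀_le_L : spanC ρ S ≤ L := spanC_le (h.SP.trans h.PL) h.r_le_L

theorem Rs_le_V : spanC ρ P' ≤ V := spanC_le h.PV' (h.r_le_L.trans h.LV)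

theorem r_ne_bot : ρ ≠ ⊥ := by
  intro h0
  apply h.not_I_le_F
  intro x hx
  have h1 := h.toHyp.cent_VW
  rw [← h1]
  refine mem_inf.2 ⟨hx.1, ?_⟩
  rw [mem_centralizer_iff]
  intro s hs
  have h2 := h.cIW x hx s hs
  rw [h0, mem_bot] at h2
  exact (comm_of_c h2).symm

/-- all `W^k`, `k ∈ P'`, centralise `R₀` -/
theorem cent_R₀ {k : G} (hk : k ∈ P') : MulAut.conj k • WW V F ≤ centralizer ((spanC ρ S : Subgroup G) : Set G) := by
  refine comm_symm ?_
  rcases h.dich k hk with h1 | ⟨i, hi, h1⟩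
  · exact h.R₀_le_L.trans (comm_symm h1)
  · refine iSup_le fun s => ?_
    obtain ⟨j, -, hj⟩ := h.perm s s.2 i₀
    rw [h.root] at hj
    rw [hj]
    by_cases hji : j = i
    · rw [hji, ← hi]
      refine conj_le_centralizer ?_
      exact fun x hx => mem_centralizer_iff.2 fun s hs => (Hyp.F_comm (h.rF hx) (Hyp.W_le_X hs)).symm
    · exact (h.RN j).trans (comm_symm (h1 j hji))

theorem Rs_cent {s : G} (hs : s ∈ P') : spanC ρ P' ≤ centralizer ((MulAut.conj s • WW V F : Subgroup G) : Set G) := by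
  refine iSup_le fun y => ?_
  have h1 := h.cent_R₀ (mul_mem (inv_mem y.2) hs)
  rw [← conj_conj] at h1
  have h2 := conj_cent h1
  rw [inv_inv] at h2
  exact ((conj_le_iff (g := (y : G))).2 le_spanC).trans (comm_symm h2)

/-- `R* ≤ F^s` -/
theorem Rs_le_conjF {s : G} (hs : s ∈ P') : spanC ρ P' ≤ MulAut.conj s • F := by
  have h1 : spanC ρ P' ≤ V ⊓ centralizer ((MulAut.conj s • WW V F : Subgroup G) : Set G) :=
    le_inf h.Rs_le_V (h.Rs_cent hs)
  refine h1.trans ?_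
  intro x hx
  rw [mem_conj]
  have h2 := h.toHyp.cent_VW
  rw [← h2]
  refine mem_inf.2 ⟨?_, ?_⟩
  · rw [← mem_conj, conj_eq_of_norm' (h.PV' hs)]
    exact hx.1
  · rw [mem_centralizer_iff]
    intro w hw
    have h3 := mem_centralizer_iff.1 hx.2 (s * w * s⁻¹) (by
      rw [SetLike.mem_coe, mem_conj]
      have e : s⁻¹ * (s * w * s⁻¹) * s = w := by group
      rwa [e])
    calc w * (s⁻¹ * x * s) = s⁻¹ * (s * w * s⁻¹ * x) * s := by group
      _ = s⁻¹ * (x * (s * w * s⁻¹)) * s := by rw [h3]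
      _ = s⁻¹ * x * s * w := by group

theorem Rs_le_F : spanC ρ P' ≤ F := by
  have := h.Rs_le_conjF (one_mem P')
  rwa [map_one, one_smul] at this

/-- `R* ∩ L ≤ R₀` -/
theorem Rs_inf_L : L ⊓ spanC ρ P' ≤ spanC ρ S := by
  refine le_trans (le_inf inf_le_left (inf_le_right.trans ?_)) h.fix
  refine comm_symm (iSup_le fun s => ?_)
  exact comm_symm (h.Rs_cent (h.SP' s.2))

/-- the block of `L^k` in which `W^k` acts: `W` and `W^t` move `v v^t` if `t` moves the block of `v ∉ ρ` -/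
theorem moves {t v : G} (ht : t ∈ S) {i : ι} (hi : i ≠ i₀) (hN : MulAut.conj t • N i₀ = N i) (hv : v ∈ N i₀)
    (hvr : v ∉ ρ) : (∃ w ∈ WW V F, w * cm v t ≠ cm v t * w) ∧
      ∃ w ∈ MulAut.conj t • WW V F, w * cm v t ≠ cm v t * w := by
  -- some `w ∈ W` moves `v`
  obtain ⟨w, hw, hwv⟩ : ∃ w ∈ WW V F, w * v ≠ v * w := by
    by_contra hall
    push Not at hall
    exact hvr (h.cNi ⟨hv, mem_centralizer_iff.2 fun w hw => hall w hw⟩)
  have hti : t * v⁻¹ * t⁻¹ ∈ N i := by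
    rw [← hN, mem_conj]
    have e : t⁻¹ * (t * v⁻¹ * t⁻¹) * t = v⁻¹ := by group
    rw [e]
    exact inv_mem hv
  have e0 : cm v t = v * (t * v⁻¹ * t⁻¹) := by rw [NOne.NearFF.c]; group
  refine ⟨⟨w, hw, fun h1 => hwv ?_⟩, ?_⟩
  · have h2 : (t * v⁻¹ * t⁻¹) * w = w * (t * v⁻¹ * t⁻¹) :=
      mem_centralizer_iff.1 (h.cN i hi hw) _ hti
    rw [e0] at h1
    have h3 : w * v * (t * v⁻¹ * t⁻¹) = v * w * (t * v⁻¹ * t⁻¹) := by
      calc w * v * (t * v⁻¹ * t⁻¹) = w * (v * (t * v⁻¹ * t⁻¹)) := by group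
        _ = v * (t * v⁻¹ * t⁻¹) * w := h1
        _ = v * ((t * v⁻¹ * t⁻¹) * w) := by group
        _ = v * w * (t * v⁻¹ * t⁻¹) := by rw [h2]; group
    exact mul_right_cancel h3
  · -- `W` centralises `v^(t⁻¹)`
    obtain ⟨l, hl, -⟩ := h.perm t⁻¹ (inv_mem ht) i₀
    have hli : l ≠ i₀ := by
      rintro rfl
      have h1 : MulAut.conj t • N l = N l := by
        have h2 : MulAut.conj t • (MulAut.conj t⁻¹ • N l) = MulAut.conj t • N l := by rw [hl]
        rw [conj_conj, mul_inv_cancel, map_one, one_smul] at h2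
        exact h2.symm
      rw [hN] at h1
      have h2 := h.ind i l hi
      rw [h1, inf_idem] at h2
      rw [h2, mem_bot] at hv
      exact hvr (hv ▸ one_mem ρ)
    have hvl : t⁻¹ * v * t ∈ N l := by
      rw [← hl, mem_conj, inv_inv]
      have e : t * (t⁻¹ * v * t) * t⁻¹ = v := by group
      rwa [e]
    refine ⟨t * w * t⁻¹, ?_, fun h1 => hwv ?_⟩
    · rw [mem_conj]
      have e : t⁻¹ * (t * w * t⁻¹) * t = w := by group
      rwa [e]
    · have h2 : (t⁻¹ * v * t) * w = w * (t⁻¹ * v * t) := mem_centralizer_iff.1 (h.cN l hli hw) _ hvl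
      have h3 : v * (t * w * t⁻¹) = t * w * t⁻¹ * v := by
        calc v * (t * w * t⁻¹) = t * ((t⁻¹ * v * t) * w) * t⁻¹ := by group
          _ = t * (w * (t⁻¹ * v * t)) * t⁻¹ := by rw [h2]
          _ = t * w * t⁻¹ * v := by group
      rw [e0] at h1
      have h4 : v * (t * (w * v⁻¹) * t⁻¹) = v * (t * (v⁻¹ * w) * t⁻¹) := by
        calc v * (t * (w * v⁻¹) * t⁻¹) = v * (t * w * t⁻¹) * (t * v⁻¹ * t⁻¹) := by group
          _ = t * w * t⁻¹ * v * (t * v⁻¹ * t⁻¹) := by rw [h3]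
          _ = t * w * t⁻¹ * (v * (t * v⁻¹ * t⁻¹)) := by group
          _ = v * (t * v⁻¹ * t⁻¹) * (t * w * t⁻¹) := h1
          _ = v * (t * (v⁻¹ * w) * t⁻¹) := by group
      have h5 : w * v⁻¹ = v⁻¹ * w := mul_left_cancel (mul_right_cancel (mul_left_cancel h4))
      calc w * v = v * (v⁻¹ * w) * v := by group
        _ = v * (w * v⁻¹) * v := by rw [h5]
        _ = v * w := by group

/-- `R i₀ ≠ R i` -/
theorem R_ne {i : ι} (hi : i ≠ i₀) : R i ≠ ρ := by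
  intro h1
  have h2 := h.ind i i₀ hi
  apply h.r_ne_bot
  rw [eq_bot_iff, ← h2]
  refine le_inf ?_ ?_
  · rw [← h1]; exact h.RN i
  · rw [← h.root]; exact h.RN i₀

/-- `W^k`, `k ∈ P'`, moves an element of `N i₀`: then `ρ^k = ρ` -/
theorem root_of_moves {k d : G} (hk : k ∈ P') (hd : d ∈ N i₀)
    (hm : ∃ a ∈ MulAut.conj k • WW V F, a * d ≠ d * a) : MulAut.conj k • ρ = ρ := by
  obtain ⟨a, ha, hne⟩ := hm
  rcases h.dich k hk with h1 | ⟨i, hi, h1⟩
  · exact absurd (mem_centralizer_iff.1 (h1 ha) d (h.NL i₀ hd)).symm hne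
  · by_cases hii : i₀ = i
    · rw [hi, ← hii, h.root]
    · exact absurd (mem_centralizer_iff.1 (h1 i₀ hii ha) d hd).symm hne

/-- **(A1)** `R* ≤ E_p` -/
theorem a1 {p : G} (hp : p ∈ P) (hpN : MulAut.conj p • ρ ≤ N i₀) (hpR : MulAut.conj p • ρ ⊓ spanC ρ S = ⊥)
    (hBS : ∀ g ∈ P', MulAut.conj p • B ≤ MulAut.conj g • S) : spanC ρ P' ≤ MulAut.conj p • EE V F := by
  refine iSup_le fun y => ?_
  by_contra hbad
  obtain ⟨z, hz, hzE⟩ := SetLike.not_le_iff_exists.1 hbad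
  have hy := y.2
  -- the frame of `B`
  set m : G := p⁻¹ * (y : G) with hm
  set x : G := p⁻¹ * z * p with hx
  have hxρ : x ∈ MulAut.conj m • ρ := by
    rw [mem_conj] at hz ⊢
    have e : m⁻¹ * x * m = (y : G)⁻¹ * z * y := by rw [hm, hx]; group
    rwa [e]
  have hxE : x ∉ EE V F := fun h1 => hzE (mem_conj.2 h1)
  have hmV : m ∈ normalizer (V : Set G) := mul_mem (h.PV (inv_mem hp)) (h.PV' hy)
  have hrV : ρ ≤ V := h.r_le_L.trans h.LV
  have hmρV : MulAut.conj m • ρ ≤ V := by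
    have h1 := (conj_le_iff (g := m)).2 hrV
    rwa [conj_eq_of_norm' hmV] at h1
  have hxV : x ∈ V := hmρV hxρ
  have hBm : ∀ b ∈ B, m⁻¹ * b * m ∈ S := by
    intro b hb
    have h1 : p * b * p⁻¹ ∈ MulAut.conj p • B := by
      rw [mem_conj]
      have e : p⁻¹ * (p * b * p⁻¹) * p = b := by group
      rwa [e]
    have h2 := hBS y hy h1
    rw [mem_conj] at h2
    have e : m⁻¹ * b * m = (y : G)⁻¹ * (p * b * p⁻¹) * y := by rw [hm]; group
    rwa [e]
  by_cases hcase : ∀ b ∈ B, MulAut.conj (m⁻¹ * b * m) • ρ = ρ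
  · -- `B` normalises `ρ^m ∋ x`: `[x, B] = ρ^m ∋ x`
    have h1 : {y : G | ∃ b ∈ B, cm x b = y} ⊆ ((MulAut.conj m • ρ : Subgroup G) : Set G) := by
      rintro y ⟨b, hb, rfl⟩
      have h2 : b ∈ normalizer ((MulAut.conj m • ρ : Subgroup G) : Set G) := by
        have h3 : MulAut.conj b • (MulAut.conj m • ρ) = MulAut.conj m • ρ := by
          rw [conj_conj]
          have e : b * m = m * (m⁻¹ * b * m) := by group
          rw [e, ← conj_conj, hcase b hb]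
        rw [mem_normalizer_iff]
        intro w
        constructor
        · intro hw
          rw [← h3, mem_conj]
          have e : b⁻¹ * (b * w * b⁻¹) * b = w := by group
          rwa [e]
        · intro hw
          rw [← h3, mem_conj] at hw
          have e : b⁻¹ * (b * w * b⁻¹) * b = w := by group
          rwa [e] at hw
      exact NOThreeL.Low.Key.c_mem_left hxρ h2
    have h2 : ((MulAut.conj m • ρ : Subgroup G) : Set G).ncard ≤ {y : G | ∃ b ∈ B, cm x b = y}.ncard := by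
      refine le_trans ?_ (h.wB x hxV hxE)
      have h3 : ((MulAut.conj m • ρ : Subgroup G) : Set G).ncard = Nat.card (MulAut.conj m • ρ : Subgroup G) :=
        (Nat.card_coe_set_eq _).symm
      rw [h3, NOne.Choice.card_conj]
      exact h.cardR
    have h3 := Set.eq_of_subset_of_ncard_le h1 h2 (Set.toFinite _)
    have h4 : x ∈ {y : G | ∃ b ∈ B, cm x b = y} := by
      rw [h3]
      exact hxρ
    obtain ⟨b, hb, hbx⟩ := h4
    apply hxE
    have h5 := h.toBH.c_memI hxV hb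
    rw [hbx] at h5
    exact h.toBH.I_le_E h5
  · push Not at hcase
    obtain ⟨b, hb, hbρ⟩ := hcase
    set t : G := m⁻¹ * b * m with ht
    have htS : t ∈ S := hBm b hb
    obtain ⟨i, hiN, hiR⟩ := h.perm t htS i₀
    rw [h.root] at hiR
    have hi : i ≠ i₀ := by
      rintro rfl
      exact hbρ (hiR.trans h.root)
    -- `v ↦ [v, t]` maps `N i₀` onto `D^(m⁻¹)`
    have hDm : ∀ v ∈ N i₀, cm v t ∈ MulAut.conj m⁻¹ • D := by
      intro v hv
      rw [mem_conj, inv_inv]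
      have h1 : m * v * m⁻¹ ∈ V := norm_conj_mem hmV (h.LV (h.NL _ hv))
      have h2 := h.memD _ h1 b hb
      have e : m * cm v t * m⁻¹ = cm (m * v * m⁻¹) b := by
        rw [ht, NOne.NearFF.c, NOne.NearFF.c]; group
      rwa [e]
    let f : N i₀ → (MulAut.conj m⁻¹ • D : Subgroup G) := fun v => ⟨cm v t, hDm v v.2⟩
    have hf : Function.Injective f := by
      rintro ⟨v, hv⟩ ⟨w, hw⟩ hvw
      have h1 : cm v t = cm w t := congrArg Subtype.val hvw
      have h2 : w⁻¹ * v = t * (w⁻¹ * v) * t⁻¹ := by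
        rw [NOne.NearFF.c, NOne.NearFF.c] at h1
        have h3 : w⁻¹ * (v * t * v⁻¹ * t⁻¹) * (t * v * t⁻¹) = w⁻¹ * (w * t * w⁻¹ * t⁻¹) * (t * v * t⁻¹) := by
          rw [h1]
        have e1 : w⁻¹ * (v * t * v⁻¹ * t⁻¹) * (t * v * t⁻¹) = w⁻¹ * v := by group
        have e2 : w⁻¹ * (w * t * w⁻¹ * t⁻¹) * (t * v * t⁻¹) = t * (w⁻¹ * v) * t⁻¹ := by group
        rwa [e1, e2] at h3
      have h3 : w⁻¹ * v ∈ N i₀ := mul_mem (inv_mem hw) hv
      have h4 : w⁻¹ * v ∈ N i := by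
        rw [← hiN, h2, mem_conj]
        have e : t⁻¹ * (t * (w⁻¹ * v) * t⁻¹) * t = w⁻¹ * v := by group
        rwa [e]
      have h5 : w⁻¹ * v ∈ N i ⊓ N i₀ := ⟨h4, h3⟩
      rw [h.ind i i₀ hi, mem_bot] at h5
      exact Subtype.ext (inv_mul_eq_one.1 h5).symm
    have hsurj : Function.Surjective f := by
      have h1 : Nat.card (MulAut.conj m⁻¹ • D : Subgroup G) ≤ Nat.card (N i₀) := by
        rw [NOne.Choice.card_conj]
        exact h.cardD.trans h.cardN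
      have h2 := (Nat.bijective_iff_injective_and_card f).2
        ⟨hf, le_antisymm (Nat.card_le_card_of_injective f hf) h1⟩
      exact h2.2
    -- `d ∈ ρ`
    obtain ⟨d, hd, hd1⟩ : ∃ d : G, d ∈ ρ ∧ d ≠ 1 := by
      by_contra hall
      push Not at hall
      exact h.r_ne_bot (eq_bot_iff.2 fun d hd => mem_bot.2 (hall d hd))
    obtain ⟨⟨v, hv⟩, hvd⟩ := hsurj ⟨m⁻¹ * d * m, by
      rw [mem_conj, inv_inv]
      have e : m * (m⁻¹ * d * m) * m⁻¹ = d := by group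
      rw [e]
      exact h.rD hd⟩
    have hvd' : cm v t = m⁻¹ * d * m := congrArg Subtype.val hvd
    -- the element of `N i₀` moved by `W^y`, `W^(yt)`
    have hdN : p * d * p⁻¹ ∈ N i₀ := hpN (by
      rw [mem_conj]
      have e : p⁻¹ * (p * d * p⁻¹) * p = d := by group
      rwa [e])
    have hde : (y : G) * cm v t * (y : G)⁻¹ = p * d * p⁻¹ := by
      rw [hvd', hm]; group
    have hvρ : v ∉ ρ := by
      intro hvρ
      have h1 : cm v t ∈ spanC ρ S := by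
        have h2 : t * v⁻¹ * t⁻¹ ∈ spanC ρ S := conj_le_spanC htS (by
          rw [mem_conj]
          have e : t⁻¹ * (t * v⁻¹ * t⁻¹) * t = v⁻¹ := by group
          rw [e]
          exact inv_mem hvρ)
        have e : cm v t = v * (t * v⁻¹ * t⁻¹) := by rw [NOne.NearFF.c]; group
        rw [e]
        exact mul_mem (le_spanC hvρ) h2
      have h2 : p * d * p⁻¹ ∈ spanC ρ P' := by
        rw [← hde]
        exact norm_conj_mem (norm_spanC ρ P' hy) (spanC_mono h.SP' h1)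
      have h3 : p * d * p⁻¹ ∈ spanC ρ S := h.Rs_inf_L ⟨h.NL _ hdN, h2⟩
      have h4 : p * d * p⁻¹ ∈ MulAut.conj p • ρ ⊓ spanC ρ S := by
        refine mem_inf.2 ⟨?_, h3⟩
        rw [mem_conj]
        have e : p⁻¹ * (p * d * p⁻¹) * p = d := by group
        rwa [e]
      rw [hpR, mem_bot] at h4
      apply hd1
      have e : d = p⁻¹ * (p * d * p⁻¹) * p := by group
      rw [e, h4]
      group
    obtain ⟨m1, m2⟩ := h.moves htS hi hiN hv hvρ
    have k1 := moves_conj (y : G) m1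
    have k2 := moves_conj (y : G) m2
    rw [hde] at k1 k2
    rw [conj_conj] at k2
    have r1 := h.root_of_moves hy hdN k1
    have r2 := h.root_of_moves (mul_mem hy (h.SP' htS)) hdN k2
    -- `ρ^y = ρ = ρ^(yt)`
    have r3 : MulAut.conj t • ρ = ρ := by
      have h1 : MulAut.conj (y : G)⁻¹ • (MulAut.conj ((y : G) * t) • ρ) = MulAut.conj (y : G)⁻¹ • (MulAut.conj (y : G) • ρ) := by
        rw [r1, r2]
      rwa [conj_conj, conj_conj, inv_mul_cancel, map_one, one_smul, inv_mul_cancel_left] at h1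
    exact hbρ r3

/-- `[e, b] = 1` for `e ∈ R*`, `b ∈ B_p` -/
theorem Rs_cent_B {p : G} (hpN : MulAut.conj p • ρ ≤ N i₀) (hpR : MulAut.conj p • ρ ⊓ spanC ρ S = ⊥)
    (hBS : ∀ g ∈ P', MulAut.conj p • B ≤ MulAut.conj g • S) (hE : spanC ρ P' ≤ MulAut.conj p • EE V F) {e b : G}
    (he : e ∈ spanC ρ P') (hb : b ∈ MulAut.conj p • B) : cm e b = 1 := by
  have h1 : cm e b ∈ MulAut.conj p • ρ := by
    rw [mem_conj]
    have h2 := h.cEB _ (mem_conj.1 (hE he)) _ (mem_conj.1 hb)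
    have e1 : p⁻¹ * cm e b * p = cm (p⁻¹ * e * p) (p⁻¹ * b * p) := by
      rw [NOne.NearFF.c, NOne.NearFF.c]; group
    rwa [e1]
  have hbS : b ∈ S := by
    have h2 := hBS 1 (one_mem P')
    rw [map_one, one_smul] at h2
    exact h2 hb
  have h2 : cm e b ∈ spanC ρ P' :=
    NOThreeL.Low.Key.c_mem_left he (norm_spanC ρ P' (h.SP' hbS))
  have h3 : cm e b ∈ MulAut.conj p • ρ ⊓ spanC ρ S :=
    mem_inf.2 ⟨h1, h.Rs_inf_L ⟨h.NL _ (hpN h1), h2⟩⟩
  rwa [hpR, mem_bot] at h3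

/-- `R* ≤ I_p` -/
theorem Rs_le_conjB {p : G} (hp : p ∈ P) (hpN : MulAut.conj p • ρ ≤ N i₀) (hpR : MulAut.conj p • ρ ⊓ spanC ρ S = ⊥)
    (hBS : ∀ g ∈ P', MulAut.conj p • B ≤ MulAut.conj g • S) (hE : spanC ρ P' ≤ MulAut.conj p • EE V F) :
    spanC ρ P' ≤ MulAut.conj p • (V ⊓ B) := by
  intro e he
  have hV : p⁻¹ * e * p ∈ V := by
    rw [← mem_conj, conj_eq_of_norm' (h.PV hp)]
    exact h.Rs_le_V he
  rw [mem_conj]
  refine mem_inf.2 ⟨hV, h.centB (mem_inf.2 ⟨hV, ?_⟩)⟩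
  rw [mem_centralizer_iff]
  intro b hb
  have h1 := comm_of_c (h.Rs_cent_B hpN hpR hBS hE he (b := p * b * p⁻¹) (by
    rw [mem_conj]
    have e1 : p⁻¹ * (p * b * p⁻¹) * p = b := by group
    rwa [e1]))
  calc b * (p⁻¹ * e * p) = p⁻¹ * (p * b * p⁻¹ * e) * p := by group
    _ = p⁻¹ * (e * (p * b * p⁻¹)) * p := by rw [h1]
    _ = p⁻¹ * e * p * b := by group

/-- `L R*` is `P`-invariant -/
theorem norm_T {p : G} (hp : p ∈ P) (hgen : P ≤ S ⊔ MulAut.conj p • WW V F)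
    (hI : spanC ρ P' ≤ MulAut.conj p • (V ⊓ B)) : P ≤ normalizer ((L ⊔ spanC ρ P' : Subgroup G) : Set G) := by
  refine hgen.trans (sup_le ?_ ?_)
  · refine norm_of_conj_le fun s hs => ?_
    rw [Subgroup.smul_sup, conj_eq_of_norm' (h.PL (h.SP hs)), conj_eq_of_norm' (norm_spanC ρ P' (h.SP' hs))]
  · refine norm_of_conj_le fun s hs => ?_
    rw [Subgroup.smul_sup]
    have hsP : s ∈ P := by
      rw [mem_conj] at hs
      have h1 : p * (p⁻¹ * s * p) * p⁻¹ ∈ P := mul_mem (mul_mem hp (h.SP (h.WS hs))) (inv_mem hp)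
      have e : p * (p⁻¹ * s * p) * p⁻¹ = s := by group
      rwa [e] at h1
    refine sup_le ?_ ?_
    · rw [conj_eq_of_norm' (h.PL hsP)]
      exact le_sup_left
    · intro x hx
      rw [mem_conj] at hx
      -- `x = s r s⁻¹`
      set r := s⁻¹ * x * s with hr
      have h1 : cm r s ∈ L := by
        have h2 := h.cIW _ (mem_conj.1 (hI hx)) _ (mem_conj.1 hs)
        have h3 : p * cm (p⁻¹ * r * p) (p⁻¹ * s * p) * p⁻¹ ∈ L :=
          norm_conj_mem (h.PL hp) (h.r_le_L h2)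
        have e : p * cm (p⁻¹ * r * p) (p⁻¹ * s * p) * p⁻¹ = cm r s := by
          rw [NOne.NearFF.c, NOne.NearFF.c]; group
        rwa [e] at h3
      have e : x = (cm r s)⁻¹ * r := by rw [NOne.NearFF.c, hr]; group
      rw [e]
      exact mul_mem (inv_mem (mem_sup_left h1)) (mem_sup_right hx)

/-- **(A2)** `R* ≤ L` -/
theorem a2 (cvq : V ⊓ centralizer ((S ⊓ centralizer (L : Set G) : Subgroup G) : Set G) ≤ L)
    (irr : ∀ X : Subgroup G, X ≤ V → P ≤ normalizer (X : Set G) → X ≠ ⊥ → L ≤ X)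
    (hT : P ≤ normalizer ((L ⊔ spanC ρ P' : Subgroup G) : Set G)) : spanC ρ P' ≤ L := by
  set Q : Subgroup G := S ⊓ centralizer (L : Set G) with hQ
  set T : Subgroup G := L ⊔ spanC ρ P' with hTd
  have hTV : T ≤ V := sup_le h.LV h.Rs_le_V
  have hcn : spanC ρ P' ≤ normalizer (L : Set G) :=
    (comm_mono h.toHyp.comm h.Rs_le_V h.LV).trans (centralizer_le_normalizer _)
  -- `X = [T, Q]`
  set X : Subgroup G := closure {y | ∃ u ∈ T, ∃ q ∈ Q, y = cm u q} with hX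
  have hXc : X ≤ spanC ρ P' := by
    rw [hX, closure_le]
    rintro y ⟨u, hu, q, hq, rfl⟩
    obtain ⟨l, hl, x, hx, rfl⟩ := mem_sup_of_norm hcn hu
    have e1 : cm (l * x) q = l * (x * (q * x⁻¹ * q⁻¹)) * (q * l⁻¹ * q⁻¹) := by rw [NOne.NearFF.c]; group
    have e2 : q * l⁻¹ * q⁻¹ = l⁻¹ := by
      have := mem_centralizer_iff.1 hq.2 l⁻¹ (inv_mem hl)
      rw [← this, mul_inv_cancel_right]
    have h2 : q * x⁻¹ * q⁻¹ ∈ spanC ρ P' := norm_conj_mem (norm_spanC ρ P' (h.SP' hq.1)) (inv_mem hx)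
    have h3 : x * (q * x⁻¹ * q⁻¹) ∈ spanC ρ P' := mul_mem hx h2
    have e3 : l * (x * (q * x⁻¹ * q⁻¹)) * l⁻¹ = x * (q * x⁻¹ * q⁻¹) := by
      rw [h.toHyp.V_comm (h.LV hl) (h.Rs_le_V h3), mul_inv_cancel_right]
    rw [SetLike.mem_coe, e1, e2, e3]
    exact h3
  have hPX : P ≤ normalizer (X : Set G) := by
    have key : ∀ t ∈ P, ∀ x ∈ X, t * x * t⁻¹ ∈ X := by
      intro t ht x hx
      induction hx using closure_induction with
      | mem x hx =>
        obtain ⟨u, hu, q, hq, rfl⟩ := hx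
        refine subset_closure ⟨t * u * t⁻¹, norm_conj_mem (hT ht) hu, t * q * t⁻¹,
          norm_conj_mem (h.PQ ht) hq, ?_⟩
        rw [NOne.NearFF.c, NOne.NearFF.c]
        group
      | one => rw [mul_one, mul_inv_cancel]; exact one_mem _
      | mul x y _ _ hx hy =>
        have e : t * (x * y) * t⁻¹ = t * x * t⁻¹ * (t * y * t⁻¹) := by group
        rw [e]
        exact mul_mem hx hy
      | inv x _ hx =>
        have e : t * x⁻¹ * t⁻¹ = (t * x * t⁻¹)⁻¹ := by group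
        rw [e]
        exact inv_mem hx
    intro t ht
    rw [mem_normalizer_iff]
    intro x
    refine ⟨key t ht x, fun hx => ?_⟩
    have h1 := key _ (inv_mem ht) _ hx
    have e : t⁻¹ * (t * x * t⁻¹) * t⁻¹⁻¹ = x := by group
    rwa [e] at h1
  have hX1 : X = ⊥ := by
    by_contra hne
    have h1 := (irr X (hXc.trans h.Rs_le_V) hPX hne).trans hXc
    apply h.mov
    intro w hw
    rw [mem_centralizer_iff]
    intro l hl
    exact Hyp.F_comm (h.Rs_le_F (h1 hl)) (Hyp.W_le_X hw)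
  refine le_trans (le_inf h.Rs_le_V fun x hx => ?_) cvq
  rw [mem_centralizer_iff]
  intro q hq
  have h1 : cm x q ∈ X := subset_closure ⟨x, mem_sup_right hx, q, hq, rfl⟩
  rw [hX1, mem_bot] at h1
  exact (comm_of_c h1).symm

/-- **(A)** `R* = R₀` -/
theorem Rs_eq {p : G} (hp : p ∈ P) (hpN : MulAut.conj p • ρ ≤ N i₀) (hpR : MulAut.conj p • ρ ⊓ spanC ρ S = ⊥)
    (hgen : P ≤ S ⊔ MulAut.conj p • WW V F) (hBS : ∀ g ∈ P', MulAut.conj p • B ≤ MulAut.conj g • S)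
    (cvq : V ⊓ centralizer ((S ⊓ centralizer (L : Set G) : Subgroup G) : Set G) ≤ L)
    (irr : ∀ X : Subgroup G, X ≤ V → P ≤ normalizer (X : Set G) → X ≠ ⊥ → L ≤ X) :
    spanC ρ P' = spanC ρ S := by
  have h1 := h.a1 hp hpN hpR hBS
  have h2 := h.a2 cvq irr (h.norm_T hp hgen (h.Rs_le_conjB hp hpN hpR hBS h1))
  exact le_antisymm ((le_inf h2 le_rfl).trans h.Rs_inf_L) (spanC_mono h.SP')

/-- **(A)** `P'` normalises `R₀` -/
theorem norm_R₀ (hR : spanC ρ P' = spanC ρ S) : P' ≤ normalizer ((spanC ρ S : Subgroup G) : Set G) := by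
  rw [← hR]
  exact norm_spanC ρ P'

/-- `c ≤ R₀` -/
theorem c_le {Z : Subgroup G} (hR : spanC ρ P' = spanC ρ S) (hZ : Z ≤ spanC ρ S)
    (hc : ∀ X : Subgroup G, P' ≤ normalizer (X : Set G) → Z ≤ X → c ≤ X) : c ≤ spanC ρ S :=
  hc _ (h.norm_R₀ hR) hZ

/-- `B₀ = C_S(R₀)` is normal in `P'` -/
theorem norm_B₀ (hR : spanC ρ P' = spanC ρ S) (hcR : c ≤ spanC ρ S)
    (PQ' : P' ≤ normalizer ((S ⊓ centralizer (c : Set G) : Subgroup G) : Set G)) :
    P' ≤ normalizer ((S ⊓ centralizer ((spanC ρ S : Subgroup G) : Set G) : Subgroup G) : Set G) := by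
  have h1 : S ⊓ centralizer ((spanC ρ S : Subgroup G) : Set G) =
      (S ⊓ centralizer (c : Set G)) ⊓ centralizer ((spanC ρ S : Subgroup G) : Set G) := by
    refine le_antisymm (le_inf (le_inf inf_le_left ?_) inf_le_right) (le_inf (inf_le_left.trans inf_le_left) inf_le_right)
    exact inf_le_right.trans (centralizer_le hcR)
  rw [h1]
  refine norm_of_conj_le fun p hp => ?_
  rw [Subgroup.smul_inf, conj_eq_of_norm' (PQ' hp)]
  refine inf_le_inf_left _ ?_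
  rw [NOne.Flat.conj_centralizer, conj_eq_of_norm' (h.norm_R₀ hR hp)]

/-- `Q ≤ B₀` -/
theorem Q_le_B₀ : S ⊓ centralizer (L : Set G) ≤ S ⊓ centralizer ((spanC ρ S : Subgroup G) : Set G) :=
  inf_le_inf_left _ (centralizer_le h.R₀_le_L)

/-- `B_x ≤ Q ≤ B₀` for `x ∈ P` -/
theorem conjB_le_B₀ {x : G} (hx : x ∈ P) :
    MulAut.conj x • B ≤ S ⊓ centralizer ((spanC ρ S : Subgroup G) : Set G) := (h.conjB_le_Q hx).trans h.Q_le_B₀

/-- `W^k ≤ B₀` for `k ∈ P'` -/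
theorem conjW_le_B₀ {k : G} (hk : k ∈ P') :
    MulAut.conj k • WW V F ≤ S ⊓ centralizer ((spanC ρ S : Subgroup G) : Set G) := le_inf (h.WS' k hk) (h.cent_R₀ hk)

end Sit

end Cfsg.Agent.Omega.NO3S.ThmWA

end
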